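import Groth.Agent.L24.Moduli.WNAModuli
import Groth.Agent.L24.St.DiagSurj
import Groth.Agent.L24.St.PointsUniv
import Groth.Agent.L24.St.QcSep
import Groth.Agent.L24.St.DiagSep
import Groth.Agent.L24.St.WNA

/-!
# The moduli map of a well-nigh affine stack is separated, quasi-compact and a universal homeomorphism
-/

set_option autoImplicit false
set_option linter.style.haveILetI false
set_option backward.isDefEq.respectTransparency false
set_option backward.isDefEq.respectTransparency.types false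

universe u

open CategoryTheory CategoryTheory.Limits AlgebraicGeometry Opposite

noncomputable section

namespace Groth.L24.WNAModuli

open Groth.L24.Multi Groth.L24.St AlgSt

variable {S : Scheme.{u}} {𝒳 : AlgSt.Cat S} {U : Over S} {x : FibCat.overCat U ⥤ᵇ 𝒳}
  {hg : FibCat.IsFibGrpd 𝒳.p}

theorem exists_chart_over (h : ∀ A : 𝒳.obj, ∃ (V : Over S) (q : V ⟶ 𝒳.p.obj A), Flat q.left ∧
      LocallyOfFinitePresentation q.left ∧ Surjective q.left ∧ ∃ (u : V ⟶ U) (φ : ob x u ⟶ A), 𝒳.p.IsHomLift q φ)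
    {k : Type u} [Field k] [IsAlgClosed k] (s : Spec (CommRingCat.of k) ⟶ S) {a : 𝒳.obj}
    (ha : 𝒳.p.obj a = Over.mk s) :
    ∃ (u : Over.mk s ⟶ U) (φ : ob x u ⟶ a), 𝒳.p.IsHomLift (𝟙 (Over.mk s)) φ := by
  obtain ⟨V, q, h₁, h₂, h₃, u, φ, hφ⟩ := h a
  have hlift : 𝒳.p.IsHomLift (q ≫ eqToHom ha) φ := by
    have key : ∀ {T : Over S} (e : 𝒳.p.obj a = T), 𝒳.p.IsHomLift (q ≫ eqToHom e) φ := by
      rintro T rfl
      rw [eqToHom_refl, Category.comp_id]
      exact hφ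
    exact key ha
  let q' : V ⟶ Over.mk s := q ≫ eqToHom ha
  let hl : V.left ⟶ Spec (CommRingCat.of k) := q'.left
  have he : IsIso (eqToHom ha).left := inferInstanceAs (IsIso ((Over.forget S).map (eqToHom ha)))
  have : LocallyOfFinitePresentation hl := inferInstanceAs (LocallyOfFinitePresentation (q.left ≫ (eqToHom ha).left))
  have : LocallyOfFiniteType hl := inferInstance
  have : Surjective hl := inferInstanceAs (Surjective (q.left ≫ (eqToHom ha).left))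
  haveI : JacobsonSpace V.left := LocallyOfFiniteType.jacobsonSpace hl
  obtain ⟨t, -⟩ := hl.surjective (IsLocalRing.closedPoint k)
  obtain ⟨w, -, hw⟩ := nonempty_inter_closedPoints (X := V.left) (Z := Set.univ)
    ⟨t, trivial⟩ isOpen_univ.isLocallyClosed
  let r : Over.mk s ⟶ V := Over.homMk (pointOfClosedPoint hl w hw) (by
    rw [← Over.w q']
    exact ((Category.assoc _ _ _).symm.trans
      (congrArg (· ≫ (Over.mk s).hom) (pointOfClosedPoint_comp hl w hw))).trans (Category.id_comp _))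
  have hr : r ≫ q ≫ eqToHom ha = 𝟙 _ := Over.OverMorphism.ext (pointOfClosedPoint_comp hl w hw)
  refine ⟨r ≫ u, pull x r rfl ≫ φ, ?_⟩
  rw [← hr]
  infer_instance

theorem isUnivClosedMor_map {X Y : Over S} (f : X ⟶ Y) [UniversallyClosed f.left] :
    AlgSp.IsUnivClosedMor ((AlgSp.yon S).map f) :=
  (Groth.L23.repWith_universallyClosed_iff (AlgSp.representable_of_yon _)).1
    ((AlgSp.repWith_yon_map_iff _ _).2 ‹_›)

theorem pBase_surjective : PBase (AlgSp.IsSurjectiveMor : MorphismProperty (AlgSp.Sp S)) :=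
  fun _ _ _ _ _ _ _ _ _ b _ _ sq h y => by
    obtain ⟨x, hx⟩ := h (AlgSp.Points.map b y)
    obtain ⟨z, -, hz⟩ := Groth.L23.exists_of_isPullback sq x y hx
    exact ⟨z, hz⟩

theorem isSurjective_fp_comp {𝒵 : AlgSt.Cat S} (h𝒵 : IsAlgStack Scheme.fppfPrecoverage 𝒵) {W : Over S}
    (h𝒳 : IsAlgStack Scheme.fppfPrecoverage 𝒳) {M : AlgSt.Cat S} (hM : IsAlgStack Scheme.fppfPrecoverage M)
    {π : 𝒳 ⥤ᵇ M} (g : 𝒵 ⥤ᵇ M) {x : FibCat.overCat W ⥤ᵇ 𝒳} (hx : AlgSt.IsSurjective x) :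
    AlgSt.IsSurjective (fpMap (F := g) (G := π) (F' := g) (G' := BasedFunctor.comp x π) (BasedFunctor.id 𝒵) x
      (Iso.refl _) (Iso.refl _)) :=
  isSurjective_legs h𝒵.isStack.1 h𝒵.isStack.1 h𝒳.isStack.1 (overCat_isFibGrpd W) hM.isStack.1 _ _ _ _
    (isSurjective_of_isEquivOver (isEquivOver_id 𝒵)) hx

variable (P : ChartGrpd.Rep x hg) [IsAffine U.left] [IsFinite P.src.left] [Flat P.src.left]
  [LocallyOfFinitePresentation P.src.left]
  (hc : ∀ A : 𝒳.obj, ChartDesc.chartable x A ∈ AlgSp.J S (𝒳.p.obj A))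

theorem isIntegral_toSpace : IsIntegralHom (toSpace P).left := Groth.Agent.L24.Quot.closed_toQuot P.grpd

theorem s1878 :
    (Function.Surjective P.grpd.toQuot ∧ ∀ u₀ u₁ : P.grpd.U, P.grpd.toQuot u₀ = P.grpd.toQuot u₁ ↔
        ∃ r : P.grpd.R, P.grpd.t r = u₀ ∧ P.grpd.s r = u₁) ∧
      ∀ (k : Type u) [Field k] [IsAlgClosed k],
        (∀ m : Spec (CommRingCat.of k) ⟶ Spec (CommRingCat.of P.grpd.invariants),
          ∃ y : Spec (CommRingCat.of k) ⟶ P.grpd.U, y ≫ P.grpd.toQuot = m) ∧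
        ∀ x₀ x₁ : Spec (CommRingCat.of k) ⟶ P.grpd.U, x₀ ≫ P.grpd.toQuot = x₁ ≫ P.grpd.toQuot ↔
          ∃ r : Spec (CommRingCat.of k) ⟶ P.grpd.R, r ≫ P.grpd.t = x₀ ∧ r ≫ P.grpd.s = x₁ := by
  have := isAffine_R P
  obtain ⟨_, _, _⟩ := Groth.Agent.L24.Quot.isFinite_t P.grpd
  exact Groth.Agent.S1878.result S P.grpd

theorem surjective_toSpace : Surjective (toSpace P).left := ⟨(s1878 P).1.1⟩

theorem comp_proj : BasedFunctor.comp x (proj P hc) =
    BasedFunctor.comp (ofOverCat U) (ofSpMap ((AlgSp.yon S).map (toSpace P))) := by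
  refine Groth.L24.QuotMor.basedFunctor_ext fun o => ?_
  obtain ⟨T, u, rfl⟩ : ∃ (T : Over S) (u : T ⟶ U), o = Over.mk u := ⟨o.left, o.hom, rfl⟩
  refine (proj_ob P hc u).trans ?_
  show _ = ((AlgSp.yon S).obj (space P)).obj.map (eqToHom rfl).op _
  simp
  rfl

theorem repWith_comp_proj {Q : MorphismProperty (AlgSp.Sp S)} (hB : PBase Q)
    (hQ : Q ((AlgSp.yon S).map (toSpace P))) : RepByAlgSpWith Q (BasedFunctor.comp x (proj P hc)) := by
  rw [comp_proj]
  exact (repWith_precomp (ofOverCat_isEquivOver U) _).2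
    (repWith_ofSpMap_of_prop hB (AlgSp.IsAlgSpace.yon_obj U) (AlgSp.IsAlgSpace.yon_obj (space P)) _ hQ)

theorem isAlgStack_space : IsAlgStack Scheme.fppfPrecoverage (ofSch (space P)) :=
  isAlgStack_of_repByAlgSp ⟨⟨_, AlgSp.IsAlgSpace.yon_obj (space P)⟩, _, isEquivOver_id _⟩

theorem comp_proj_toSelf : BasedFunctor.comp (proj P hc) (FibCat.toSelf (ofSch (space P))) = FibCat.toSelf 𝒳 := by
  have key : ∀ {𝒴 : AlgSt.Cat S} (φ : 𝒳 ⥤ᵇ 𝒴), BasedFunctor.comp φ (FibCat.toSelf 𝒴) = FibCat.toSelf 𝒳 := by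
    intro 𝒴 φ
    have ext' : ∀ {Φ Ψ : 𝒳 ⥤ᵇ FibCat.selfOver (Over S)}, Φ.toFunctor = Ψ.toFunctor → Φ = Ψ := by
      rintro ⟨F, _⟩ ⟨G, _⟩ rfl
      rfl
    exact ext' φ.w
  exact key _

theorem separated (h𝒳 : IsAlgStack Scheme.fppfPrecoverage 𝒳) (hw : IsWellNighAffine 𝒳) :
    IsSeparatedMor (proj P hc) := by
  refine isSeparatedMor_of_comp (g := FibCat.toSelf (ofSch (space P))) ?_ ?_
  · rw [comp_proj_toSelf]
    exact (properties_of_wellNighAffine h𝒳 hw).2.2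
  · refine separatedDiag_of_rep1 (repWith_rep1 ((repWith_precomp (ofOverCat_isEquivOver (space P)) _).1
      (diagonal_repWith_toSelf (R := @IsFinite) ?_ (ofOverCat (space P)))))
    have : IsAffine (space P).left := isAffine_Spec _
    have := isClosedImmersion_diagonal_of_isAffine (space P).hom
    exact (inferInstance : IsFinite (pullback.diagonal (space P).hom))

include hc in
theorem surjective_chart (h𝒳 : IsAlgStack Scheme.fppfPrecoverage 𝒳)
    (hxs : RepByAlgSpWith AlgSp.IsSurjectiveMor x) {𝒵 : AlgSt.Cat S}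
    (h𝒵 : IsAlgStack Scheme.fppfPrecoverage 𝒵) (g : 𝒵 ⥤ᵇ ofSch (space P)) :
    AlgSt.IsSurjective (fpMap (F := g) (G := proj P hc) (F' := g) (G' := BasedFunctor.comp x (proj P hc))
      (BasedFunctor.id 𝒵) x (Iso.refl _) (Iso.refl _)) :=
  isSurjective_fp_comp h𝒵 h𝒳 (isAlgStack_space P) g
    (isSurjective_of_repWith (overCat_isFibGrpd U) h𝒳.isStack.1 hxs)

theorem quasiCompact (h𝒳 : IsAlgStack Scheme.fppfPrecoverage 𝒳) (hxs : RepByAlgSpWith AlgSp.IsSurjectiveMor x) :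
    IsQuasiCompactMor Scheme.fppfPrecoverage (proj P hc) := by
  intro 𝒵 h𝒵 hq g
  have hM := isAlgStack_space P
  have := isIntegral_toSpace P
  have h1 := repWith_comp_proj P hc pBase_qcMor
    (Groth.L23.isQuasiCompactMor_of_repWith ((AlgSp.repWith_yon_map_iff _ _).2 (inferInstance :
      QuasiCompact (toSpace P).left)))
  have h2 := (repWith_qcMor_iff (overCat_isFibGrpd U) hM.isStack.1 (repWith_rep1 h1)).1 h1 𝒵 h𝒵 hq g
  exact isQuasiCompact_of_functor (isAlgStack_fp h𝒵 (isAlgStack_overCat U) hM g _) (isAlgStack_fp h𝒵 h𝒳 hM g _)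
    (surjective_chart P hc h𝒳 hxs h𝒵 g) h2

theorem univHomeo (h𝒳 : IsAlgStack Scheme.fppfPrecoverage 𝒳) (hxs : RepByAlgSpWith AlgSp.IsSurjectiveMor x)
    (hchart : ∀ A : 𝒳.obj, ∃ (V : Over S) (q : V ⟶ 𝒳.p.obj A), Flat q.left ∧
      LocallyOfFinitePresentation q.left ∧ Surjective q.left ∧ ∃ (u : V ⟶ U) (φ : ob x u ⟶ A), 𝒳.p.IsHomLift q φ) :
    IsUnivHomeo Scheme.fppfPrecoverage (proj P hc) := by
  have hM := isAlgStack_space P
  have := isIntegral_toSpace P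
  have := surjective_toSpace P
  have hdiag : AlgSt.IsSurjective (FibCat.diag (proj P hc)) := by
    refine isSurjective_diag_of_forall h𝒳 hM _ fun k _ _ s a₁ a₂ h₁ h₂ β hβ => ?_
    obtain ⟨u₁, φ₁, hφ₁⟩ := exists_chart_over hchart s h₁
    obtain ⟨u₂, φ₂, hφ₂⟩ := exists_chart_over hchart s h₂
    have e₁ := ChartDesc.fibSec_lift (proj P hc) (ChartDesc.w_ob u₁) h₁ (𝟙 (Over.mk s)) φ₁
    have e₂ := ChartDesc.fibSec_lift (proj P hc) (ChartDesc.w_ob u₂) h₂ (𝟙 (Over.mk s)) φ₂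
    rw [op_id, Functor.map_id_apply, proj_ob] at e₁ e₂
    have e₃ := Groth.L24.QuotMor.transport_sec β (((proj P hc).w_obj a₁).trans h₁)
      (((proj P hc).w_obj a₂).trans h₂) (𝟙 (Over.mk s))
      (IsHomLift.fac' (ofSch (space P)).p (𝟙 (Over.mk s)) β)
    rw [op_id, Functor.map_id_apply] at e₃
    have e₄ : u₂ ≫ toSpace P = u₁ ≫ toSpace P := congrArg ULift.down (e₂.symm.trans (e₃.trans e₁))
    obtain ⟨r, hrt, hrs⟩ := (((s1878 P).2 k).2 u₂.left u₁.left).1 (congrArg (fun m => m.left) e₄)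
    let r' : Over.mk s ⟶ P.R := Over.homMk r (by
      rw [← Over.w P.src, ← Category.assoc]
      exact (congrArg (· ≫ U.hom) hrs).trans (Over.w u₁))
    obtain ⟨ar, hv, hw⟩ : ∃ ar : Ar x (Over.mk s), ar.v = u₁ ∧ ar.w = u₂ :=
      ⟨P.η _ r', (P.η_v r').trans (Over.OverMorphism.ext hrs), (P.η_w r').trans (Over.OverMorphism.ext hrt)⟩
    obtain ⟨v, w, χ, hχ⟩ := ar
    dsimp only at hv hw
    subst hv hw
    have := L09.Fib.isIso_of_isFibGrpd _ h𝒳.isStack.1 (𝟙 (Over.mk s)) φ₁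
    have : 𝒳.p.IsHomLift (𝟙 (Over.mk s)) (inv φ₁) := IsHomLift.lift_id_inv_isIso 𝒳.p (Over.mk s) φ₁
    have hα : 𝒳.p.IsHomLift (𝟙 (Over.mk s) ≫ 𝟙 _ ≫ 𝟙 _) (inv φ₁ ≫ χ ≫ φ₂) := inferInstance
    rw [Category.comp_id, Category.comp_id] at hα
    refine ⟨inv φ₁ ≫ χ ≫ φ₂, hα, ?_⟩
    have := BasedFunctor.preserves_isHomLift (proj P hc) (𝟙 (Over.mk s)) (inv φ₁ ≫ χ ≫ φ₂)
    exact L09.Fib.setoid_ext (ofSp_isFibSetoid _) (𝟙 (Over.mk s))
  intro 𝒵 h𝒵 g
  have hfpX := isAlgStack_fp h𝒵 h𝒳 hM g (proj P hc)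
  let m := fpMap (F := g) (G := proj P hc) (F' := g) (G' := BasedFunctor.comp x (proj P hc))
    (BasedFunctor.id 𝒵) x (Iso.refl _) (Iso.refl _)
  have hm : AlgSt.IsSurjective m := surjective_chart P hc h𝒳 hxs h𝒵 g
  have hcomp : ∀ p, Points.map (FibCat.fpFst g (proj P hc)) (Points.map m p) =
      Points.map (FibCat.fpFst g (BasedFunctor.comp x (proj P hc))) p := fun p => by
    rw [← map_comp_apply]
    rfl
  have hclosed : IsClosedMap (Points.map (FibCat.fpFst g (BasedFunctor.comp x (proj P hc)))) :=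
    isUnivX_of_repWith (T := fun {A B} [TopologicalSpace A] [TopologicalSpace B] t => IsClosedMap t)
      (fun hk hsq _ ht => hsq.isClosedMap (hk.isClosedMap.comp ht)) (overCat_isFibGrpd U) hM.isStack.1
      (repWith_comp_proj P hc pBase_univClosed (isUnivClosedMor_map (toSpace P))) 𝒵 h𝒵 g
  have hsurj : AlgSt.IsSurjective (BasedFunctor.comp x (proj P hc)) :=
    isSurjective_of_repWith (overCat_isFibGrpd U) hM.isStack.1
      (repWith_comp_proj P hc pBase_surjective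
        (Groth.L23.surjective_map_of_repWith ((AlgSp.repWith_yon_map_iff _ _).2 ‹Surjective (toSpace P).left›)))
  rw [isHomeomorph_iff_continuous_isClosedMap_bijective]
  refine ⟨continuous_fpFst h𝒵 g _, fun A hA => ?_, injective_fpFst_of_diag h𝒳.isStack.1 hM.isStack.1 h𝒵.isStack.1 hdiag g, ?_⟩
  · have : Points.map (FibCat.fpFst g (proj P hc)) '' A =
        Points.map (FibCat.fpFst g (BasedFunctor.comp x (proj P hc))) '' (Points.map m ⁻¹' A) := by
      ext z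
      constructor
      · rintro ⟨a, ha, rfl⟩
        obtain ⟨p, rfl⟩ := hm a
        exact ⟨p, ha, (hcomp p).symm⟩
      · rintro ⟨p, hp, rfl⟩
        exact ⟨_, hp, hcomp p⟩
    rw [this]
    exact hclosed _ (hA.preimage (continuous_map hfpX m))
  · intro z
    obtain ⟨p, hp⟩ := isSurjective_fpFst (overCat_isFibGrpd U) hM.isStack.1 h𝒵.isStack.1 g hsurj z
    exact ⟨Points.map m p, (hcomp p).trans hp⟩

end Groth.L24.WNAModuli
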