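import Groth.Agent.L24.Multi.Atlas
import Groth.Agent.L24.QuotMor.Desc
import Groth.Agent.L24.St.FlatCover
import Groth.Agent.L24.St.MonoLocal
import Groth.Agent.L24.LocQ.Descent

/-!
# Functors from a stack to a sheaf through invariant maps on a flat chart
-/

set_option autoImplicit false
set_option linter.style.haveILetI false
set_option backward.isDefEq.respectTransparency false
set_option backward.isDefEq.respectTransparency.types false

universe u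

open CategoryTheory CategoryTheory.Limits AlgebraicGeometry Opposite AlgSp

noncomputable section

namespace Groth.L24.ChartDesc

open Groth.L24.Multi
open Groth.L24.QuotMor (pt pt_comp)

variable {S : Scheme.{u}} {𝒳 : AlgSt.Cat S} {U : Over S} (x : FibCat.overCat U ⥤ᵇ 𝒳) {N : Sp S}

/-- The morphisms over which an object comes from the chart. -/
def chartable (A : 𝒳.obj) : Sieve (𝒳.p.obj A) where
  arrows W a := ∃ (u : W ⟶ U) (φ : ob x u ⟶ A), 𝒳.p.IsHomLift a φ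
  downward_closed := by
    rintro W W' a ⟨u, φ, hφ⟩ l
    exact ⟨l ≫ u, pull x l rfl ≫ φ, inferInstance⟩

/-- The value of a functor to a sheaf is natural along lifts. -/
theorem fibSec_lift (φ : 𝒳 ⥤ᵇ AlgSt.ofSp N) {A B : 𝒳.obj} {T T' : Over S} (hA : 𝒳.p.obj A = T)
    (hB : 𝒳.p.obj B = T') (a : T ⟶ T') (γ : A ⟶ B) [h : 𝒳.p.IsHomLift a γ] :
    N.obj.map a.op (AlgSt.fibSec φ ⟨B, hB⟩) = AlgSt.fibSec φ ⟨A, hA⟩ := by
  refine Groth.L24.QuotMor.transport_sec (φ.map γ) ((φ.w_obj A).trans hA) ((φ.w_obj B).trans hB) a ?_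
  have : (AlgSt.ofSp N).p.IsHomLift a (φ.map γ) := BasedFunctor.preserves_isHomLift φ a γ
  exact IsHomLift.fac' (AlgSt.ofSp N).p a (φ.map γ)

/-- Invariance of a map out of the chart. -/
def Inv (g : (yon S).obj U ⟶ N) : Prop := ∀ ⦃T : Over S⦄ (s : Ar x T), pt g s.v = pt g s.w

variable {x} in
theorem pt_eq_of_lift (hg : FibCat.IsFibGrpd 𝒳.p) {g : (yon S).obj U ⟶ N} (hi : Inv x g) {A : 𝒳.obj}
    {W : Over S} {T : Over S} (a : W ⟶ T) {u u' : W ⟶ U} (φ : ob x u ⟶ A) (φ' : ob x u' ⟶ A)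
    [𝒳.p.IsHomLift a φ] [𝒳.p.IsHomLift a φ'] : pt g u = pt g u' := by
  have := Groth.L09.Fib.stronglyCartesian_of_isFibGrpd 𝒳.p hg a φ'
  exact hi ⟨u, u', Functor.IsStronglyCartesian.map 𝒳.p a φ' (Category.id_comp a).symm φ, inferInstance⟩

variable {x} in
theorem w_ob {T : Over S} (u : T ⟶ U) : 𝒳.p.obj (ob x u) = T := x.w_obj (Over.mk u)

variable {x} in
/-- The map out of the chart of a functor. -/
def rest (φ : 𝒳 ⥤ᵇ AlgSt.ofSp N) : (yon S).obj U ⟶ N :=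
  ObjectProperty.homMk
    { app := fun T => ↾fun u => AlgSt.fibSec φ ⟨ob x u.down, w_ob u.down⟩
      naturality := fun T T' q => by
        ext u
        exact (fibSec_lift φ (w_ob (x := x) (q.unop ≫ u.down)) (w_ob (x := x) u.down) q.unop
          (pull x q.unop rfl)).symm }

variable {x} in
theorem pt_rest (φ : 𝒳 ⥤ᵇ AlgSt.ofSp N) {T : Over S} (u : T ⟶ U) :
    pt (rest (x := x) φ) u = AlgSt.fibSec φ ⟨ob x u, w_ob u⟩ := rfl

variable {x} in
theorem rest_comp (φ : 𝒳 ⥤ᵇ AlgSt.ofSp N) {N' : Sp S} (k : N ⟶ N') :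
    rest (x := x) (BasedFunctor.comp φ (AlgSt.ofSpMap k)) = rest (x := x) φ ≫ k := by
  apply ObjectProperty.hom_ext
  ext T u
  exact (NatTrans.naturality_apply k.hom _ _).symm

section Cover

variable (hg : FibCat.IsFibGrpd 𝒳.p) (hx₁ : AlgSt.RepByAlgSpWith (LocP @Flat) x)
  (hx₂ : AlgSt.RepByAlgSpWith (LocP @LocallyOfFinitePresentation) x)
  (hx₃ : AlgSt.RepByAlgSpWith AlgSp.IsSurjectiveMor x)
include hg hx₁ hx₂ hx₃

open Groth.L24.St in
/-- Every object comes from the chart on a flat cover of its base. -/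
theorem exists_chart (A : 𝒳.obj) :
    ∃ (V : Over S) (q : V ⟶ 𝒳.p.obj A), Flat q.left ∧ LocallyOfFinitePresentation q.left ∧
      Surjective q.left ∧ ∃ (u : V ⟶ U) (φ : ob x u ⟶ A), 𝒳.p.IsHomLift q φ := by
  obtain ⟨yA, i, hi⟩ := exists_overCat_functor hg A rfl
  obtain ⟨G, π, ζ, hπ, ⟨iζ⟩⟩ := exists_cover hx₁ hx₂ hx₃ yA
  obtain ⟨V, p, hp, hps⟩ := G.property.atlas
  obtain ⟨q, hq⟩ := (yon S).map_surjective (p ≫ π)
  have hY := AlgSp.IsAlgSpace.yon_obj (S := S)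
  have hpl : ∀ {P : MorphismProperty Scheme.{u}}, Groth.L23.EtLocal P → LocP P π → P q.left := fun hP h =>
    (Groth.L24.LocQ.locP_map_iff hP q).1 (by
      rw [hq]
      exact Groth.L23.locP_comp hP (hY V) G.property (hY _)
        (Groth.L23.locP_of_repWith hP (Groth.L23.repWith_mono (fun φ hφ => hP.etale φ hφ) hp)) h)
  refine ⟨V, q, hpl Groth.L23.etLocal_flat (hπ.1 PUnit.unit).1, hpl Groth.L23.etLocal_lfp (hπ.1 PUnit.unit).2, ?_, ?_⟩
  · refine (AlgSp.repWith_yon_map_iff _ _).1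
      (Groth.L23.repWith_surjective_of_map (AlgSp.representable_of_yon _) fun z => ?_)
    obtain ⟨⟨⟩, z', hz'⟩ := hπ.2 z
    obtain ⟨v, hv⟩ := Groth.L23.surjective_map_of_repWith hps z'
    refine ⟨v, ?_⟩
    rw [hq, AlgSp.Points.map_comp]
    show AlgSp.Points.map π (AlgSp.Points.map p v) = z
    exact (congrArg _ hv).trans hz'
  let e₀ := (AlgSt.ofOverCat V).obj (idObj V)
  let e := (AlgSt.ofSpMap p).obj e₀
  let M := BasedFunctor.comp (BasedFunctor.comp (AlgSt.ofSpMap π) (AlgSt.toOverCat (𝒳.p.obj A))) yA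
  obtain ⟨u, hu⟩ : ∃ u : V ⟶ U, ζ.obj e = Over.mk u := by
    obtain ⟨w, hw⟩ : ∃ w : (ζ.obj e).left = V, True := ⟨ζ.w_obj e, trivial⟩
    obtain ⟨Z, w', hZ⟩ : ∃ (Z : Over S) (w' : Z ⟶ U), ζ.obj e = Over.mk w' :=
      ⟨(ζ.obj e).left, (ζ.obj e).hom, rfl⟩
    rw [hZ] at w
    obtain rfl : Z = V := w
    exact ⟨w', hZ⟩
  obtain ⟨q', hq'⟩ : ∃ q' : V ⟶ 𝒳.p.obj A,
      (BasedFunctor.comp (AlgSt.ofSpMap π) (AlgSt.toOverCat (𝒳.p.obj A))).obj e = Over.mk q' :=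
    ⟨_, rfl⟩
  have hqq : q' = q := by
    have h1 : q' = ((π.hom.app (op V)) ((p.hom.app (op V)) ⟨𝟙 V⟩)).down := by
      have h0 : (Over.mk q' : Over (𝒳.p.obj A)) = Over.mk ((π.hom.app (op V)) ((p.hom.app (op V)) ⟨𝟙 V⟩)).down :=
        hq'.symm.trans rfl
      have key : ∀ (m m' : V ⟶ 𝒳.p.obj A), (Over.mk m : Over (𝒳.p.obj A)) = Over.mk m' → m = m' := fun m m' e => by
        cases e; rfl
      exact key _ _ h0
    rw [h1]
    have := congrArg (fun k : (yon S).obj V ⟶ (yon S).obj (𝒳.p.obj A) => (k.hom.app (op V) ⟨𝟙 V⟩).down) hq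
    exact this.symm.trans (Category.id_comp q)
  subst hqq
  have h1 : 𝒳.p.IsHomLift (𝟙 V) ((appIso iζ e).inv) :=
    ((overId_app iζ.inv e)).lift (((BasedFunctor.comp ζ x).w_obj e).trans rfl)
  refine ⟨u, eqToHom (congrArg x.obj hu.symm) ≫ (appIso iζ e).inv ≫ eqToHom (congrArg yA.obj hq') ≫
    yA.map (Over.homMk q' (Category.comp_id q') : Over.mk q' ⟶ idObj (𝒳.p.obj A)) ≫ i.hom, ?_⟩
  have h2 : (FibCat.overCat (𝒳.p.obj A)).p.IsHomLift q'
      (Over.homMk q' (Category.comp_id q') : Over.mk q' ⟶ idObj (𝒳.p.obj A)) :=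
    IsHomLift.map (Over.forget (𝒳.p.obj A)) (Over.homMk q' (Category.comp_id q') : Over.mk q' ⟶ idObj (𝒳.p.obj A))
  have h3 : 𝒳.p.IsHomLift (𝟙 (𝒳.p.obj A)) i.hom := hi.lift (yA.w_obj _)
  have h4 : 𝒳.p.IsHomLift (q' ≫ 𝟙 _)
      (yA.map (Over.homMk q' (Category.comp_id q') : Over.mk q' ⟶ idObj (𝒳.p.obj A)) ≫ i.hom) := inferInstance
  rw [Category.comp_id] at h4
  infer_instance

theorem chartable_mem (A : 𝒳.obj) : chartable x A ∈ AlgSp.J S (𝒳.p.obj A) := by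
  obtain ⟨V, q, h₁, h₂, h₃, hc⟩ := exists_chart x hg hx₁ hx₂ hx₃ A
  refine GrothendieckTopology.superset_covering _ ?_ (Groth.L24.St.generate_mem_J (fun _ : PUnit.{u + 1} => V)
    (fun _ => q) (fun _ => h₁) (fun _ => h₂) fun t => ⟨⟨⟩, q.left.surjective t⟩)
  rw [Sieve.generate_le_iff]
  rintro _ _ ⟨⟨⟩⟩
  exact hc

end Cover

variable {x} (hg : FibCat.IsFibGrpd 𝒳.p) (hc : ∀ A : 𝒳.obj, chartable x A ∈ AlgSp.J S (𝒳.p.obj A))
include hg hc

omit hg in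
theorem ext_on_charts {A : 𝒳.obj} {m m' : N.obj.obj (op (𝒳.p.obj A))}
    (h : ∀ (W : Over S) (a : W ⟶ 𝒳.p.obj A) (u : W ⟶ U) (φ : ob x u ⟶ A),
      𝒳.p.IsHomLift a φ → N.obj.map a.op m = N.obj.map a.op m') : m = m' := by
  refine (((isSheaf_iff_isSheaf_of_type _ _).1 N.property) _ (hc A)).isSeparatedFor.ext fun W a ha => ?_
  obtain ⟨u, φ, hφ⟩ := ha
  exact h W a u φ hφ

/-- An invariant map has a unique value at every object. -/
theorem existsUnique_sec {g : (yon S).obj U ⟶ N} (hi : Inv x g) (A : 𝒳.obj) :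
    ∃! m : N.obj.obj (op (𝒳.p.obj A)), ∀ (W : Over S) (a : W ⟶ 𝒳.p.obj A) (u : W ⟶ U) (φ : ob x u ⟶ A),
      𝒳.p.IsHomLift a φ → N.obj.map a.op m = pt g u := by
  let fam : Presieve.FamilyOfElements N.obj (chartable x A).arrows := fun W a ha => pt g ha.choose
  have hfam : fam.Compatible := by
    intro Y₁ Y₂ Z g₁ g₂ f₁ f₂ h₁ h₂ e
    show N.obj.map g₁.op (pt g h₁.choose) = N.obj.map g₂.op (pt g h₂.choose)
    rw [pt_comp, pt_comp]
    obtain ⟨φ₁, hφ₁⟩ := h₁.choose_spec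
    obtain ⟨φ₂, hφ₂⟩ := h₂.choose_spec
    have i₁ : 𝒳.p.IsHomLift (g₁ ≫ f₁) (pull x g₁ (v' := g₁ ≫ h₁.choose) rfl ≫ φ₁) := inferInstance
    have i₂ : 𝒳.p.IsHomLift (g₁ ≫ f₁) (pull x g₂ (v' := g₂ ≫ h₂.choose) rfl ≫ φ₂) := by
      rw [e]; infer_instance
    exact pt_eq_of_lift hg hi (g₁ ≫ f₁) (pull x g₁ (v' := g₁ ≫ h₁.choose) rfl ≫ φ₁)
      (pull x g₂ (v' := g₂ ≫ h₂.choose) rfl ≫ φ₂)
  obtain ⟨m, hm, -⟩ := (((isSheaf_iff_isSheaf_of_type _ _).1 N.property) _ (hc A)) fam hfam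
  refine existsUnique_of_exists_of_unique ⟨m, fun W a u φ hφ => ?_⟩ fun m₁ m₂ h₁ h₂ =>
    ext_on_charts hc fun W a u φ hφ => (h₁ W a u φ hφ).trans (h₂ W a u φ hφ).symm
  have ha : (chartable x A).arrows a := ⟨u, φ, hφ⟩
  refine (hm a ha).trans ?_
  obtain ⟨φ', hφ'⟩ := ha.choose_spec
  exact pt_eq_of_lift hg hi a φ' φ

/-- The functor of an invariant map. -/
def desc {g : (yon S).obj U ⟶ N} (hi : Inv x g) : 𝒳 ⥤ᵇ AlgSt.ofSp N where
  toFunctor :=
    { obj := fun A => ⟨𝒳.p.obj A, (existsUnique_sec hg hc hi A).exists.choose⟩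
      map := fun {A B} f => ⟨𝒳.p.map f, by
        refine (existsUnique_sec hg hc hi A).unique (fun W a u φ hφ => ?_)
          (existsUnique_sec hg hc hi A).exists.choose_spec
        rw [← Functor.map_comp_apply, ← op_comp]
        refine (existsUnique_sec hg hc hi B).exists.choose_spec W (a ≫ 𝒳.p.map f) u (φ ≫ f) ?_
        infer_instance⟩
      map_id := fun A => Stk.EltObj.hom_ext (𝒳.p.map_id A)
      map_comp := fun f f' => Stk.EltObj.hom_ext (𝒳.p.map_comp f f') }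
  w := rfl

omit hg hc in
theorem inv_rest (φ : 𝒳 ⥤ᵇ AlgSt.ofSp N) : Inv x (rest (x := x) φ) := fun T s => by
  rw [pt_rest, pt_rest, ← fibSec_lift φ (w_ob s.v) (w_ob s.w) (𝟙 T) s.φ, op_id, Functor.map_id_apply]

theorem pt_desc {g : (yon S).obj U ⟶ N} (hi : Inv x g) {T : Over S} (u : T ⟶ U) :
    AlgSt.fibSec (desc hg hc hi) ⟨ob x u, w_ob u⟩ = pt g u := by
  have hlift : 𝒳.p.IsHomLift (eqToHom (x.w_obj (Over.mk u)).symm) (𝟙 (ob x u)) :=
    IsHomLift.of_fac 𝒳.p _ _ (x.w_obj _) rfl (by simp)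
  exact (existsUnique_sec hg hc hi (ob x u)).exists.choose_spec T
    (eqToHom (x.w_obj (Over.mk u)).symm) u (𝟙 _) hlift

theorem rest_desc {g : (yon S).obj U ⟶ N} (hi : Inv x g) : rest (x := x) (desc hg hc hi) = g := by
  apply ObjectProperty.hom_ext
  ext T u
  exact pt_desc hg hc hi u.down

omit hg in
/-- A functor is determined by its map out of the chart. -/
theorem rest_injective {φ ψ : 𝒳 ⥤ᵇ AlgSt.ofSp N} (h : rest (x := x) φ = rest (x := x) ψ) : φ = ψ := by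
  refine Groth.L24.QuotMor.basedFunctor_ext fun A => ext_on_charts hc fun W a u γ hγ => ?_
  rw [fibSec_lift φ (w_ob u) rfl a γ, fibSec_lift ψ (w_ob u) rfl a γ, ← pt_rest, ← pt_rest, h]

theorem nonempty_iso_iff (π : 𝒳 ⥤ᵇ AlgSt.ofSp N) {N' : Sp S} (k : N ⟶ N') (φ : 𝒳 ⥤ᵇ AlgSt.ofSp N') :
    Nonempty (BasedFunctor.comp π (AlgSt.ofSpMap k) ≅ φ) ↔
      rest (x := x) π ≫ k = rest (x := x) φ := by
  rw [← rest_comp]
  exact ⟨fun ⟨e⟩ => by rw [Groth.L24.QuotMor.eq_of_iso e], fun h => ⟨eqToIso (rest_injective hc h)⟩⟩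

end Groth.L24.ChartDesc
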