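import Groth.Agent.L24.Multi.Atlas
import Groth.Agent.L24.St.WNA
import Groth.Agent.L24.LocQ.Descent
import Groth.Agent.L23.AffineMor
import Groth.Prelude.Def_Grpd

/-!
# The groupoid scheme of a chart with representable arrows
-/

set_option autoImplicit false
set_option linter.style.haveILetI false
set_option backward.isDefEq.respectTransparency false
set_option backward.isDefEq.respectTransparency.types false

universe u

open CategoryTheory CategoryTheory.Limits AlgebraicGeometry Opposite AlgSp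

noncomputable section

namespace Groth.L24.ChartGrpd

open Groth.L24.Multi Groth.L24.St

variable {S : Scheme.{u}} {𝒳 : AlgSt.Cat S} {U : Over S} {x : FibCat.overCat U ⥤ᵇ 𝒳}
  (hg : FibCat.IsFibGrpd 𝒳.p)

theorem comp_assoc {T : Over S} (a b c : Ar x T) (h₁ : a.w = b.v) (h₂ : b.w = c.v) :
    (a.comp b h₁).comp c h₂ = a.comp (b.comp c h₂) h₁ := by
  obtain ⟨v, w, φ, hφ⟩ := a
  obtain ⟨v', w', φ', hφ'⟩ := b
  obtain ⟨v'', w'', φ'', hφ''⟩ := c
  dsimp only at h₁ h₂
  subst h₁ h₂
  refine Ar.ext' rfl rfl ?_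
  simp [Ar.comp]

theorem one_comp {T : Over S} (a : Ar x T) (v : T ⟶ U) (h : v = a.v) :
    (Ar.one (x := x) v).comp a h = a := by
  subst h
  refine Ar.ext' rfl rfl ?_
  simp [Ar.comp, Ar.one]

theorem comp_one {T : Over S} (a : Ar x T) (v : T ⟶ U) (h : a.w = v) :
    a.comp (Ar.one (x := x) v) h = a := by
  subst h
  refine Ar.ext' rfl rfl ?_
  simp [Ar.comp, Ar.one]

/-- The inverse arrow. -/
def inv' {T : Over S} (a : Ar x T) : Ar x T := a.div hg (Ar.one a.v) rfl

theorem comp_inv' {T : Over S} (a : Ar x T) : a.comp (inv' hg a) rfl = Ar.one a.v := by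
  have := a.isIso hg
  refine Ar.ext' rfl rfl ?_
  simp [Ar.comp, Ar.one, inv', Ar.div]

theorem inv'_comp {T : Over S} (a : Ar x T) : (inv' hg a).comp a rfl = Ar.one a.w := by
  have := a.isIso hg
  refine Ar.ext' rfl rfl ?_
  simp [Ar.comp, Ar.one, inv', Ar.div]

theorem res_inv' {T T' : Over S} (g : T' ⟶ T) (a : Ar x T) : (inv' hg a).res hg g = inv' hg (a.res hg g) := by
  rw [inv', Ar.res_div hg]
  exact Ar.div_congr hg rfl (Ar.res_one hg g a.v) _

variable (x) in
/-- A scheme representing the arrows of the chart. -/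
structure Rep where
  R : Over S
  η : ∀ T : Over S, (T ⟶ R) ≃ Ar x T
  η_nat : ∀ {T T' : Over S} (k : T' ⟶ T) (f : T ⟶ R), η T' (k ≫ f) = (η T f).res hg k

namespace Rep

variable {hg} (P : Rep x hg)

/-- The source. -/
def src : P.R ⟶ U := (P.η P.R (𝟙 _)).v

/-- The target. -/
def tgt : P.R ⟶ U := (P.η P.R (𝟙 _)).w

theorem η_v {T : Over S} (f : T ⟶ P.R) : (P.η T f).v = f ≫ P.src := by
  conv_lhs => rw [← Category.comp_id f, P.η_nat]
  rfl

theorem η_w {T : Over S} (f : T ⟶ P.R) : (P.η T f).w = f ≫ P.tgt := by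
  conv_lhs => rw [← Category.comp_id f, P.η_nat]
  rfl

theorem symm_v {T : Over S} (a : Ar x T) : (P.η T).symm a ≫ P.src = a.v := by
  rw [← η_v, Equiv.apply_symm_apply]

theorem symm_w {T : Over S} (a : Ar x T) : (P.η T).symm a ≫ P.tgt = a.w := by
  rw [← η_w, Equiv.apply_symm_apply]

/-- The composable pairs. -/
abbrev pairs : Over S := Over.mk (pullback.fst P.src.left P.tgt.left ≫ P.R.hom)

/-- The first leg of a composable pair. -/
def pFst : P.pairs ⟶ P.R := Over.homMk (pullback.fst P.src.left P.tgt.left) rfl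

/-- The second leg of a composable pair. -/
def pSnd : P.pairs ⟶ P.R := Over.homMk (pullback.snd P.src.left P.tgt.left) (by
  show pullback.snd P.src.left P.tgt.left ≫ P.R.hom = pullback.fst P.src.left P.tgt.left ≫ P.R.hom
  conv_lhs => rw [← Over.w P.tgt, ← Category.assoc, ← pullback.condition, Category.assoc, Over.w P.src])

theorem pair_condition : P.pFst ≫ P.src = P.pSnd ≫ P.tgt := Over.OverMorphism.ext pullback.condition

/-- Composition of the arrows of a pair. -/
def compArr : P.pairs ⟶ P.R :=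
  (P.η P.pairs).symm ((P.η P.pairs P.pSnd).comp (P.η P.pairs P.pFst) (by
    rw [η_w, η_v, pair_condition]))

/-- The unit arrow. -/
def idArr : U ⟶ P.R := (P.η U).symm (Ar.one (𝟙 U))

/-- The inverse arrow. -/
def invArr : P.R ⟶ P.R := (P.η P.R).symm (inv' hg (P.η P.R (𝟙 _)))

theorem η_idArr {T : Over S} (v : T ⟶ U) : P.η T (v ≫ P.idArr) = Ar.one v := by
  rw [P.η_nat, idArr, Equiv.apply_symm_apply, Ar.res_one, Category.comp_id]

theorem η_invArr {T : Over S} (f : T ⟶ P.R) : P.η T (f ≫ P.invArr) = inv' hg (P.η T f) := by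
  rw [P.η_nat, invArr, Equiv.apply_symm_apply, res_inv', ← P.η_nat, Category.comp_id]

/-- The composite of two morphisms to the arrows. -/
def mul {T : Over S} (a b : T ⟶ P.R) (h : a ≫ P.src = b ≫ P.tgt) : T ⟶ P.R :=
  (P.η T).symm ((P.η T b).comp (P.η T a) (by rw [η_w, η_v, h]))

theorem η_mul {T : Over S} (a b : T ⟶ P.R) (h : a ≫ P.src = b ≫ P.tgt) :
    P.η T (P.mul a b h) = (P.η T b).comp (P.η T a) (by rw [η_w, η_v, h]) :=
  Equiv.apply_symm_apply _ _

theorem mul_src {T : Over S} (a b : T ⟶ P.R) (h : a ≫ P.src = b ≫ P.tgt) :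
    P.mul a b h ≫ P.src = b ≫ P.src :=
  (P.η_v _).symm.trans ((congrArg Ar.v (P.η_mul a b h)).trans (P.η_v b))

theorem mul_tgt {T : Over S} (a b : T ⟶ P.R) (h : a ≫ P.src = b ≫ P.tgt) :
    P.mul a b h ≫ P.tgt = a ≫ P.tgt :=
  (P.η_w _).symm.trans ((congrArg Ar.w (P.η_mul a b h)).trans (P.η_w a))

theorem lift_compArr {T : Over S} (a b : T ⟶ P.R) (h : a ≫ P.src = b ≫ P.tgt)
    (h' : a.left ≫ P.src.left = b.left ≫ P.tgt.left) :
    pullback.lift a.left b.left h' ≫ P.compArr.left = (P.mul a b h).left := by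
  let k : T ⟶ P.pairs := Over.homMk (pullback.lift a.left b.left h') (by
    show pullback.lift a.left b.left h' ≫ pullback.fst P.src.left P.tgt.left ≫ P.R.hom = T.hom
    rw [pullback.lift_fst_assoc]
    exact Over.w a)
  have h1 : k ≫ P.pFst = a := Over.OverMorphism.ext (pullback.lift_fst _ _ _)
  have h2 : k ≫ P.pSnd = b := Over.OverMorphism.ext (pullback.lift_snd _ _ _)
  have : k ≫ P.compArr = P.mul a b h := by
    apply (P.η T).injective
    rw [P.η_nat, compArr, Equiv.apply_symm_apply, η_mul, Ar.res_mul]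
    exact Ar.comp_congr hg (by rw [← P.η_nat, h2]) (by rw [← P.η_nat, h1]) _
  exact congrArg (fun m => m.left) this

/-- A morphism of schemes to the arrows, over the base. -/
abbrev toOver {T : Scheme.{u}} (α : T ⟶ P.R.left) : Over.mk (α ≫ P.R.hom) ⟶ P.R := Over.homMk α rfl

/-- The second morphism of a composable pair, over the same base. -/
abbrev toOver' {T : Scheme.{u}} {α β : T ⟶ P.R.left} (h : α ≫ P.src.left = β ≫ P.tgt.left) :
    Over.mk (α ≫ P.R.hom) ⟶ P.R :=
  Over.homMk β (by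
    show β ≫ P.R.hom = α ≫ P.R.hom
    conv_lhs => rw [← Over.w P.tgt, ← Category.assoc, ← h, Category.assoc, Over.w P.src])

theorem mul_left {T : Scheme.{u}} (α β : T ⟶ P.R.left) (h : α ≫ P.src.left = β ≫ P.tgt.left) :
    pullback.lift α β h ≫ P.compArr.left =
      (P.mul (P.toOver α) (P.toOver' h) (Over.OverMorphism.ext h)).left :=
  P.lift_compArr (P.toOver α) (P.toOver' h) _ h

/-- The groupoid scheme of the chart. -/
def grpd : Grpd.GroupoidScheme S where
  U := U.left
  R := P.R.left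
  pU := U.hom
  pR := P.R.hom
  s := P.src.left
  t := P.tgt.left
  e := P.idArr.left
  i := P.invArr.left
  c := P.compArr.left
  s_over := Over.w P.src
  t_over := Over.w P.tgt
  comp_s α β h := by
    rw [P.mul_left α β h]
    exact congrArg (fun m => m.left) (P.mul_src (P.toOver α) (P.toOver' h) (Over.OverMorphism.ext h))
  comp_t α β h := by
    rw [P.mul_left α β h]
    exact congrArg (fun m => m.left) (P.mul_tgt (P.toOver α) (P.toOver' h) (Over.OverMorphism.ext h))
  assoc α β γ h₁ h₂ := by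
    let a := P.toOver α
    let b := P.toOver' h₁
    let c : Over.mk (α ≫ P.R.hom) ⟶ P.R := Over.homMk γ (by
      show γ ≫ P.R.hom = α ≫ P.R.hom
      conv_lhs => rw [← Over.w P.tgt, ← Category.assoc, ← h₂, Category.assoc, Over.w P.src]
      exact Over.w b)
    have e₁ : a ≫ P.src = b ≫ P.tgt := Over.OverMorphism.ext h₁
    have e₂ : b ≫ P.src = c ≫ P.tgt := Over.OverMorphism.ext h₂
    have e₃ : P.mul a b e₁ ≫ P.src = c ≫ P.tgt := (P.mul_src a b e₁).trans e₂
    have e₄ : a ≫ P.src = P.mul b c e₂ ≫ P.tgt := e₁.trans (P.mul_tgt b c e₂).symm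
    have k₁ : pullback.lift α β h₁ ≫ P.compArr.left = (P.mul a b e₁).left := P.lift_compArr a b e₁ h₁
    have k₂ : pullback.lift β γ h₂ ≫ P.compArr.left = (P.mul b c e₂).left := P.lift_compArr b c e₂ h₂
    simp only [k₁, k₂]
    refine (P.lift_compArr _ c e₃ _).trans (Eq.trans ?_ (P.lift_compArr a _ e₄ _).symm)
    refine congrArg (fun m : Over.mk (α ≫ P.R.hom) ⟶ P.R => m.left) ((P.η _).injective ?_)
    exact (P.η_mul _ c e₃).trans ((Ar.comp_congr hg rfl (P.η_mul a b e₁) _).trans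
      ((comp_assoc _ _ _ _ _).symm.trans
        ((Ar.comp_congr hg (P.η_mul b c e₂).symm rfl _).trans (P.η_mul a _ e₄).symm)))
  e_s := congrArg (fun m => m.left) (P.symm_v (Ar.one (𝟙 U)))
  e_t := congrArg (fun m => m.left) (P.symm_w (Ar.one (𝟙 U)))
  comp_e α := by
    let a := P.toOver α
    have e : a ≫ P.src = ((a ≫ P.src) ≫ P.idArr) ≫ P.tgt := by
      rw [Category.assoc (a ≫ P.src), idArr, symm_w]; exact (Category.comp_id _).symm
    refine ((congrArg (· ≫ P.compArr.left) ?_).trans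
      (P.lift_compArr a ((a ≫ P.src) ≫ P.idArr) e (congrArg (fun m => m.left) e))).trans
        (congrArg (fun m => m.left) ((P.η _).injective ?_ : P.mul a _ e = a))
    · apply pullback.hom_ext <;> simp [a]
    · rw [η_mul, Ar.comp_congr hg (P.η_idArr (a ≫ P.src)) rfl]
      exact one_comp _ _ (P.η_v a).symm
  e_comp α := by
    let a := P.toOver α
    have e : ((a ≫ P.tgt) ≫ P.idArr) ≫ P.src = a ≫ P.tgt := by
      rw [Category.assoc (a ≫ P.tgt), idArr, symm_v]; exact Category.comp_id _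
    refine ((congrArg (· ≫ P.compArr.left) ?_).trans
      (P.lift_compArr ((a ≫ P.tgt) ≫ P.idArr) a e (congrArg (fun m => m.left) e))).trans
        (congrArg (fun m => m.left) ((P.η _).injective ?_ : P.mul _ a e = a))
    · apply pullback.hom_ext <;> simp [a]
    · rw [η_mul, Ar.comp_congr hg rfl (P.η_idArr (a ≫ P.tgt))]
      exact comp_one _ _ (P.η_w a)
  i_s := congrArg (fun m => m.left) ((P.symm_v (inv' hg (P.η P.R (𝟙 _)))).trans rfl)
  i_t := congrArg (fun m => m.left) ((P.symm_w (inv' hg (P.η P.R (𝟙 _)))).trans rfl)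
  comp_i α := by
    let a := P.toOver α
    have e : a ≫ P.src = (a ≫ P.invArr) ≫ P.tgt := by rw [← η_w, η_invArr, ← η_v]; rfl
    refine ((congrArg (· ≫ P.compArr.left) ?_).trans
      (P.lift_compArr a (a ≫ P.invArr) e (congrArg (fun m => m.left) e))).trans
        ((congrArg (fun m => m.left) ((P.η _).injective ?_ :
          P.mul a _ e = (a ≫ P.tgt) ≫ P.idArr)).trans (Category.assoc _ _ _))
    · apply pullback.hom_ext <;> simp [a]
    · rw [η_mul, η_idArr, Ar.comp_congr hg (P.η_invArr a) rfl, inv'_comp]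
      exact congrArg Ar.one (P.η_w a)
  i_comp α := by
    let a := P.toOver α
    have e : (a ≫ P.invArr) ≫ P.src = a ≫ P.tgt := by rw [← η_v, η_invArr, ← η_w]; rfl
    refine ((congrArg (· ≫ P.compArr.left) ?_).trans
      (P.lift_compArr (a ≫ P.invArr) a e (congrArg (fun m => m.left) e))).trans
        ((congrArg (fun m => m.left) ((P.η _).injective ?_ :
          P.mul _ a e = (a ≫ P.src) ≫ P.idArr)).trans (Category.assoc _ _ _))
    · apply pullback.hom_ext <;> simp [a]
    · rw [η_mul, η_idArr, Ar.comp_congr hg rfl (P.η_invArr a), comp_inv']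
      exact congrArg Ar.one (P.η_v a)

end Rep

variable {hg}

theorem isAlgSpace_arSp (h𝒳 : Stk.IsStack (AlgSp.J S) 𝒳) {P : MorphismProperty (Sp S)} (hB : PBase P)
    (hr : AlgSt.RepByAlgSpWith P x) :
    IsAlgSpace (arSp (x := x) hg h𝒳) ∧ P (srcMap (x := x) hg h𝒳) := by
  obtain ⟨F, e, he, hP⟩ := hr U x
  obtain ⟨c, hc, -, -⟩ := exists_inverse he
  have := isIso_spMap (F := arSp (x := x) hg h𝒳) (G := F.obj)
    (isEquivOver_comp (toFp_isEquivOver (x := x) hg) hc)
  have hE : IsAlgSpace (arSp (x := x) hg h𝒳) := Groth.L23.isAlgSpace_of_representable_to F.property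
    (Groth.L23.repWith_of_isIso (P := @Etale) (spMap (F := arSp (x := x) hg h𝒳) (G := F.obj)
      (BasedFunctor.comp (toFp (x := x) hg) c))).1
  refine ⟨hE, ?_⟩
  rw [srcMap_eq]
  exact Wit.prop_of_equiv (fun F F' hF hF' i _ a ha => hB.iso_left hF hF' (IsAlgSpace.yon_obj U) i ha)
    ⟨F, e, he, hP⟩ hE _ (toFp_isEquivOver hg)

variable (hg) in
/-- A finite flat chart by an affine scheme has affine arrows, finite flat over the chart. -/
theorem exists_rep (h𝒳 : Stk.IsStack (AlgSp.J S) 𝒳) 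
    (hfin : AlgSt.RepByAlgSpWith IsFiniteMor x) (hfl : AlgSt.RepByAlgSpWith (LocP @Flat) x)
    (hlfp : AlgSt.RepByAlgSpWith (LocP @LocallyOfFinitePresentation) x) :
    ∃ P : Rep x hg, IsFinite P.src.left ∧ Flat P.src.left ∧ LocallyOfFinitePresentation P.src.left := by
  obtain ⟨hE, h1⟩ := isAlgSpace_arSp (hg := hg) h𝒳 pBase_finite hfin
  obtain ⟨-, h2⟩ := isAlgSpace_arSp (hg := hg) h𝒳 (pBase_locP Groth.L23.etLocal_flat) hfl
  obtain ⟨-, h3⟩ := isAlgSpace_arSp (hg := hg) h𝒳 (pBase_locP Groth.L23.etLocal_lfp) hlfp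
  have hrep : RepWith @IsFinite (srcMap (x := x) hg h𝒳) := Groth.L23.isFiniteMor_iff.1 h1
  let R := hrep.1.pullback (𝟙 ((yon S).obj U))
  let ρ := hrep.1.fst (𝟙 ((yon S).obj U))
  have sq : IsPullback ρ ((yon S).map (hrep.1.snd (𝟙 ((yon S).obj U)))) (srcMap hg h𝒳) (𝟙 _) :=
    hrep.1.isPullback _
  have : IsIso ρ := sq.isIso_fst_of_isIso
  let P : Rep x hg :=
    { R := R
      η := fun T =>
        { toFun := fun f => sec hg h𝒳 ((yon S).map f ≫ ρ)
          invFun := fun a => (yon S).preimage (arPt hg h𝒳 a ≫ inv ρ)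
          left_inv := fun f => (yon S).map_injective (by
            rw [Functor.map_preimage, IsIso.comp_inv_eq]
            exact sec_inj hg h𝒳 (sec_arPt hg h𝒳 _))
          right_inv := fun a => by simp [sec_arPt] }
      η_nat := fun k f => by
        show sec hg h𝒳 ((yon S).map (k ≫ f) ≫ ρ) = _
        rw [Functor.map_comp, Category.assoc, sec_nat]
        rfl }
  have hs : (yon S).map P.src = ρ ≫ srcMap hg h𝒳 := by
    rw [comp_srcMap]
    show (yon S).map (sec hg h𝒳 ((yon S).map (𝟙 R) ≫ ρ)).v = _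
    rw [CategoryTheory.Functor.map_id, Category.id_comp]
  have hl : ∀ {Q : MorphismProperty Scheme.{u}}, Groth.L23.EtLocal Q → LocP Q (srcMap (x := x) hg h𝒳) →
      Q P.src.left := fun hQ h => (Groth.L24.LocQ.locP_map_iff hQ P.src).1 (by
    rw [hs]
    exact (pBase_locP hQ).iso_left hE (IsAlgSpace.yon_obj R) (IsAlgSpace.yon_obj U) ρ h)
  refine ⟨P, ?_, hl Groth.L23.etLocal_flat h2, hl Groth.L23.etLocal_lfp h3⟩
  refine (AlgSp.repWith_yon_map_iff _ _).1 ?_
  rw [hs]
  exact Groth.L23.isFiniteMor_iff.1 (pBase_finite.iso_left hE (IsAlgSpace.yon_obj R) (IsAlgSpace.yon_obj U) ρ h1)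

end Groth.L24.ChartGrpd
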