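import Groth.Prelude.Def_StCoarse
import Groth.Agent.L24.QuotMor.Desc
import Groth.Agent.L24.St.Sp
import Groth.Agent.L09.FibFp
import Groth.Agent.L23.Glue
import Groth.Agent.L23.Epi
import Groth.Agent.L23.LocP

/-!
# Categorical moduli spaces can be checked on affine flat base changes
-/

set_option autoImplicit false
set_option linter.style.haveILetI false
set_option backward.isDefEq.respectTransparency false
set_option backward.isDefEq.respectTransparency.types false

universe u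

open CategoryTheory CategoryTheory.Limits AlgebraicGeometry Opposite AlgSp

noncomputable section

namespace Groth.L24.FlatLocal

variable {S : Scheme.{u}} {𝒳 : AlgSt.Cat S} {M M' N : Sp S} {π : 𝒳 ⥤ᵇ AlgSt.ofSp M} {g : M' ⟶ M}
  (Φ : FibCat.fp (AlgSt.ofSpMap g) π ⥤ᵇ AlgSt.ofSp N)


/-- The point of the base space under an object of the fibre product. -/
def sec (A : (FibCat.fp (AlgSt.ofSpMap g) π).obj) :
    (yon S).obj ((FibCat.fp (AlgSt.ofSpMap g) π).p.obj A) ⟶ M' :=
  (J S).uliftYonedaEquiv.{u + 1}.symm A.obj.fst.sec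

/-- The value of a functor at an object, as a morphism out of the base. -/
def val (A : (FibCat.fp (AlgSt.ofSpMap g) π).obj) :
    (yon S).obj ((FibCat.fp (AlgSt.ofSpMap g) π).p.obj A) ⟶ N :=
  (J S).uliftYonedaEquiv.{u + 1}.symm (AlgSt.fibSec Φ ⟨A, rfl⟩)

/-- `h` computes `Φ` along `y`. -/
def Cond {Y : Sp S} (y : Y ⟶ M') (h : Y ⟶ N) : Prop :=
  ∀ (A : (FibCat.fp (AlgSt.ofSpMap g) π).obj)
    (k : (yon S).obj ((FibCat.fp (AlgSt.ofSpMap g) π).p.obj A) ⟶ Y),
    k ≫ y = sec A → k ≫ h = val Φ A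

variable {Φ}

lemma cond_comp {Y Y' : Sp S} {y : Y ⟶ M'} {h : Y ⟶ N} (hc : Cond Φ y h) (r : Y' ⟶ Y) :
    Cond Φ (r ≫ y) (r ≫ h) := fun A k hk => by
  rw [← Category.assoc] at hk ⊢
  exact hc A _ hk

lemma map_equiv_symm {F : Sp S} {T T' : Over S} (t : T' ⟶ T) (x : F.obj.obj (op T)) :
    (yon S).map t ≫ (J S).uliftYonedaEquiv.{u + 1}.symm x = (J S).uliftYonedaEquiv.{u + 1}.symm (F.obj.map t.op x) := by
  apply (J S).uliftYonedaEquiv.{u + 1}.injective
  rw [Equiv.apply_symm_apply, ← GrothendieckTopology.uliftYonedaEquiv_naturality, Equiv.apply_symm_apply]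

lemma map_sec {A A' : (FibCat.fp (AlgSt.ofSpMap g) π).obj} (φ : A' ⟶ A) :
    (yon S).map ((FibCat.fp (AlgSt.ofSpMap g) π).p.map φ) ≫ sec A = sec A' :=
  (map_equiv_symm _ _).trans (congrArg _ φ.hom.fst.map_sec)

lemma map_val {A A' : (FibCat.fp (AlgSt.ofSpMap g) π).obj} (φ : A' ⟶ A) :
    (yon S).map ((FibCat.fp (AlgSt.ofSpMap g) π).p.map φ) ≫ val Φ A = val Φ A' :=
  (map_equiv_symm _ _).trans (congrArg _ (Groth.L24.QuotMor.fibSec_map Φ φ))

/-- The condition at an object, applied after restricting along a morphism of the base. -/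
lemma comp_val_eq (hπ : FibCat.IsFibGrpd 𝒳.p) {Y : Sp S} {y : Y ⟶ M'} {h : Y ⟶ N} (hc : Cond Φ y h)
    (A : (FibCat.fp (AlgSt.ofSpMap g) π).obj) {T : Over S}
    (t : T ⟶ (FibCat.fp (AlgSt.ofSpMap g) π).p.obj A) (k : (yon S).obj T ⟶ Y)
    (hk : k ≫ y = (yon S).map t ≫ sec A) : k ≫ h = (yon S).map t ≫ val Φ A := by
  have hfp := Groth.L09.Fib.fp_isFibGrpd (F := AlgSt.ofSpMap g) (G := π)
    (Groth.L24.St.ofSp_isFibGrpd M') hπ (Groth.L24.St.ofSp_isFibGrpd M)
  obtain ⟨A', φ, hφ⟩ := hfp.exists_lift t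
  obtain rfl := IsHomLift.domain_eq (FibCat.fp (AlgSt.ofSpMap g) π).p t φ
  have ht : (FibCat.fp (AlgSt.ofSpMap g) π).p.map φ = t := by
    simpa using IsHomLift.fac' (FibCat.fp (AlgSt.ofSpMap g) π).p t φ
  rw [← ht, map_val]
  refine hc A' k ?_
  rw [hk, ← ht, map_sec]

/-- The restriction of `Φ` along `y`. -/
def restr {Y : Sp S} (y : Y ⟶ M') :
    FibCat.fp (AlgSt.ofSpMap (y ≫ g)) π ⥤ᵇ AlgSt.ofSp N :=
  BasedFunctor.comp
    (FibCat.fpLift (F := AlgSt.ofSpMap g) (G := π)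
      (BasedFunctor.comp (FibCat.fpFst (AlgSt.ofSpMap (y ≫ g)) π) (AlgSt.ofSpMap y))
      (FibCat.fpSnd (AlgSt.ofSpMap (y ≫ g)) π)
      (FibCat.fpIso (AlgSt.ofSpMap (y ≫ g)) π)) Φ

/-- The condition is the factorisation of the restricted functor. -/
theorem cond_iff {Y : Sp S} (y : Y ⟶ M') (h : Y ⟶ N) :
    Cond Φ y h ↔ Nonempty (BasedFunctor.comp (FibCat.fpFst (AlgSt.ofSpMap (y ≫ g)) π) (AlgSt.ofSpMap h) ≅
      restr (Φ := Φ) y) := by
  constructor
  · intro hc
    refine ⟨eqToIso (Groth.L24.QuotMor.basedFunctor_ext fun B => ?_)⟩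
    let A := (FibCat.fpLift (F := AlgSt.ofSpMap g) (G := π)
      (BasedFunctor.comp (FibCat.fpFst (AlgSt.ofSpMap (y ≫ g)) π) (AlgSt.ofSpMap y))
      (FibCat.fpSnd (AlgSt.ofSpMap (y ≫ g)) π)
      (FibCat.fpIso (AlgSt.ofSpMap (y ≫ g)) π)).obj B
    let k : (yon S).obj B.obj.fst.base ⟶ Y := (J S).uliftYonedaEquiv.{u + 1}.symm B.obj.fst.sec
    have hk : k ≫ y = sec A := by
      apply (J S).uliftYonedaEquiv.{u + 1}.injective
      rw [GrothendieckTopology.uliftYonedaEquiv_comp, Equiv.apply_symm_apply]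
      exact ((J S).uliftYonedaEquiv.{u + 1}.apply_symm_apply A.obj.fst.sec).symm
    have h1 : h.hom.app (op B.obj.fst.base) B.obj.fst.sec = AlgSt.fibSec Φ ⟨A, rfl⟩ := by
      refine Eq.trans ?_ ((congrArg (J S).uliftYonedaEquiv.{u + 1} (hc A k hk)).trans
        ((J S).uliftYonedaEquiv.{u + 1}.apply_symm_apply _))
      rw [GrothendieckTopology.uliftYonedaEquiv_comp]
      exact congrArg (h.hom.app (op B.obj.fst.base))
        ((J S).uliftYonedaEquiv.{u + 1}.apply_symm_apply B.obj.fst.sec).symm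
    have h2 : N.obj.map (𝟙 (op B.obj.fst.base)) (h.hom.app (op B.obj.fst.base) B.obj.fst.sec) =
        AlgSt.fibSec Φ ⟨A, rfl⟩ := by
      rw [Functor.map_id_apply]
      exact h1
    exact h2
  · rintro ⟨e⟩ ⟨⟨⟨T, m⟩, x, i⟩, hi⟩
    show ∀ k : (yon S).obj T ⟶ Y, _ → _
    intro k hk
    apply (J S).uliftYonedaEquiv.{u + 1}.injective
    have hm : m = y.hom.app (op T) ((J S).uliftYonedaEquiv.{u + 1} k) := by
      rw [← GrothendieckTopology.uliftYonedaEquiv_comp]
      exact ((J S).uliftYonedaEquiv.{u + 1}.apply_symm_apply m).symm.trans (congrArg _ hk.symm)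
    subst hm
    let B : (FibCat.fp (AlgSt.ofSpMap (y ≫ g)) π).obj :=
      ⟨{ fst := ⟨T, (J S).uliftYonedaEquiv.{u + 1} k⟩, snd := x, iso := i }, hi⟩
    have h1 := congrArg (fun F => AlgSt.fibSec F (T := T) ⟨B, rfl⟩) (Groth.L24.QuotMor.eq_of_iso e)
    rw [GrothendieckTopology.uliftYonedaEquiv_comp, val, Equiv.apply_symm_apply]
    have h2 : N.obj.map (𝟙 (op T)) (h.hom.app (op T) ((J S).uliftYonedaEquiv.{u + 1} k)) =
        AlgSt.fibSec (restr (Φ := Φ) y) (T := T) ⟨B, rfl⟩ := h1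
    rw [Functor.map_id_apply] at h2
    exact h2

section Glue

variable {U : Over S} {ι : Type*} {V : ι → Over S} (j : ∀ i, V i ⟶ U)
  [∀ i, IsOpenImmersion (j i).left]

/-- Morphisms agree when they agree on all morphisms factoring through a member of a cover of `U`. -/
lemma hom_ext_pulled (hs : ∀ t : ↥U.left, ∃ i v, (j i).left v = t) {T : Over S} (w : T ⟶ U)
    {a b : (yon S).obj T ⟶ N}
    (hab : ∀ (i : ι) (T' : Over S) (t : T' ⟶ T) (s : T' ⟶ V i), s ≫ j i = t ≫ w →
      (yon S).map t ≫ a = (yon S).map t ≫ b) : a = b := by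
  refine Groth.L23.hom_ext_cover
    (fun i => Groth.L23.openOverι T (w.left ⁻¹ᵁ (j i).left.opensRange)) (fun t => ?_) fun i => ?_
  · obtain ⟨i, v, hv⟩ := hs (w.left t)
    exact ⟨i, ⟨t, ⟨v, hv⟩⟩, rfl⟩
  · refine hab i _ _ (Over.homMk (IsOpenImmersion.lift (j i).left
      ((w.left ⁻¹ᵁ (j i).left.opensRange).ι ≫ w.left) ?_) ?_) ?_
    · rintro _ ⟨t, rfl⟩
      exact t.2
    · show _ ≫ (V i).hom = _
      rw [← Over.w (j i), IsOpenImmersion.lift_fac_assoc, Category.assoc, Over.w w]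
      rfl
    · exact Over.OverMorphism.ext (IsOpenImmersion.lift_fac _ _ _)

/-- The condition is local on the source. -/
theorem cond_of_cover (hπ : FibCat.IsFibGrpd 𝒳.p) (hs : ∀ t : ↥U.left, ∃ i v, (j i).left v = t)
    {y : (yon S).obj U ⟶ M'} {h : (yon S).obj U ⟶ N}
    (hc : ∀ i, Cond Φ ((yon S).map (j i) ≫ y) ((yon S).map (j i) ≫ h)) : Cond Φ y h := by
  intro A k hk
  obtain ⟨w, rfl⟩ := (yon S).map_surjective k
  refine hom_ext_pulled j hs w fun i T' t s hts => ?_
  have h1 : (yon S).map s ≫ (yon S).map (j i) = (yon S).map t ≫ (yon S).map w := by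
    rw [← Functor.map_comp, ← Functor.map_comp, hts]
  have h2 := comp_val_eq hπ (hc i) A t ((yon S).map s) (by rw [reassoc_of% h1, hk])
  rw [reassoc_of% h1] at h2
  exact h2

end Glue

/-- `y` is flat over `M`. -/
def Good (g : M' ⟶ M) {U : Over S} (y : (yon S).obj U ⟶ M') : Prop := LocP @Flat (y ≫ g)

lemma good_comp (hM : IsAlgSpace M) {U V : Over S} {y : (yon S).obj U ⟶ M'} (hy : Good g y)
    (r : V ⟶ U) [Flat r.left] : Good g ((yon S).map r ≫ y) := by
  rw [Good, Category.assoc]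
  exact Groth.L23.locP_comp Groth.L23.etLocal_flat (IsAlgSpace.yon_obj V) (IsAlgSpace.yon_obj U) hM
    (Groth.L23.locP_of_repWith Groth.L23.etLocal_flat ((repWith_yon_map_iff _ _).2 ‹_›)) hy

variable (π) in
/-- The hypothesis: base changes to flat affine schemes are categorical moduli spaces. -/
def AffHyp : Prop :=
  ∀ (Y' : Over S), IsAffine Y'.left → ∀ (a : (yon S).obj Y' ⟶ M), LocP @Flat a →
    AlgSt.IsCatModuli (FibCat.fpFst (AlgSt.ofSpMap a) π)

lemma existsUnique_affine (hf : AffHyp π) (hN : IsAlgSpace N) {U : Over S} (hU : IsAffine U.left)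
    {y : (yon S).obj U ⟶ M'} (hy : Good g y) : ∃! h : (yon S).obj U ⟶ N, Cond Φ y h := by
  simpa only [cond_iff] using (hf U hU (y ≫ g) hy).2 N hN (restr (Φ := Φ) y)

lemma affine_cover (U : Over S) :
    ∀ t : ↥U.left, ∃ (B : U.left.affineOpens) (v : _), (Groth.L23.openOverι U B.1).left v = t := by
  intro t
  obtain ⟨B, hB, ht, -⟩ := exists_isAffineOpen_mem_and_subset (x := t) (U := ⊤) trivial
  exact ⟨⟨B, hB⟩, ⟨t, ht⟩, rfl⟩

lemma cond_unique (hM : IsAlgSpace M) (hf : AffHyp π) (hN : IsAlgSpace N) {U : Over S}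
    {y : (yon S).obj U ⟶ M'} (hy : Good g y) {h h' : (yon S).obj U ⟶ N} (hc : Cond Φ y h)
    (hc' : Cond Φ y h') : h = h' := by
  refine Groth.L23.hom_ext_cover (fun B : U.left.affineOpens => Groth.L23.openOverι U B.1)
    (affine_cover U) fun B => ?_
  exact (existsUnique_affine hf hN (show IsAffine (Groth.L23.openOver U B.1).left from B.2) (good_comp hM hy _)).unique (cond_comp hc _) (cond_comp hc' _)

lemma cond_exists (hπ : FibCat.IsFibGrpd 𝒳.p) (hM : IsAlgSpace M) (hf : AffHyp π) (hN : IsAlgSpace N)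
    {U : Over S} {y : (yon S).obj U ⟶ M'} (hy : Good g y) :
    ∃ h : (yon S).obj U ⟶ N, Cond Φ y h := by
  choose x hx hxu using fun B : U.left.affineOpens =>
    existsUnique_affine (Φ := Φ) hf hN (show IsAffine (Groth.L23.openOver U B.1).left from B.2) (good_comp hM hy (Groth.L23.openOverι U B.1))
  obtain ⟨h, hh, -⟩ := Groth.L23.existsUnique_glue
    (fun B : U.left.affineOpens => Groth.L23.openOverι U B.1) (affine_cover U) x
    fun W B C a b w => by
      let ja := Groth.L23.openOverι U B.1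
      let jb := Groth.L23.openOverι U C.1
      rw [← pullback.lift_fst (f := ja) (g := jb) a b w]
      conv_rhs => rw [← pullback.lift_snd (f := ja) (g := jb) a b w]
      simp only [Functor.map_comp, Category.assoc]
      congr 1
      have : IsOpenImmersion (pullback.fst ja jb).left :=
        MorphismProperty.of_isPullback (P := @IsOpenImmersion)
          ((IsPullback.of_hasPullback ja jb).map (Over.forget S)).flip
          (inferInstanceAs (IsOpenImmersion jb.left))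
      refine cond_unique hM hf hN
        (good_comp hM (good_comp hM hy ja) (pullback.fst ja jb)) (cond_comp (hx B) _) ?_
      rw [← Functor.map_comp_assoc, pullback.condition, Functor.map_comp_assoc]
      exact cond_comp (hx C) _
  refine ⟨h, cond_of_cover _ hπ (affine_cover U) fun B => ?_⟩
  rw [hh B]
  exact hx B

/-- The universal property of the base change along a flat morphism. -/
theorem existsUnique_cond (hπ : FibCat.IsFibGrpd 𝒳.p) (hM : IsAlgSpace M) (hM' : IsAlgSpace M')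
    (hg : LocP @Flat g) (hf : AffHyp π) (hN : IsAlgSpace N) :
    ∃! h : M' ⟶ N, Cond Φ (𝟙 M') h := by
  obtain ⟨U, p, hp, hps⟩ := hM'.atlas
  have := Groth.L23.epi_of_repWith p hp hps
  have hy : Good g p := Groth.L23.locP_comp Groth.L23.etLocal_flat (IsAlgSpace.yon_obj U) hM' hM
    (Groth.L23.locP_of_repWith Groth.L23.etLocal_flat
      (Groth.L23.repWith_mono (fun φ hφ => Groth.L23.etLocal_flat.etale φ hφ) hp)) hg
  obtain ⟨h₀, hh₀⟩ := cond_exists (Φ := Φ) hπ hM hf hN hy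
  obtain ⟨R, r₁, r₂, sq⟩ := Groth.L23.exists_isPullback_of_representable hp.1 p
  have hr₁ : Etale r₁.left := hp.2 _ _ _ sq.flip
  have heq : (yon S).map r₁ ≫ h₀ = (yon S).map r₂ ≫ h₀ := by
    refine cond_unique hM hf hN (good_comp hM hy r₁) (cond_comp hh₀ _) ?_
    rw [sq.w]
    exact cond_comp hh₀ _
  obtain ⟨hcol⟩ := Groth.L23.nonempty_isColimit_cofork p sq
  let h := hcol.desc (Cofork.ofπ h₀ heq)
  have hph : p ≫ h = h₀ := hcol.fac (Cofork.ofπ h₀ heq) WalkingParallelPair.one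
  refine ⟨h, fun A k hk => ?_, fun h' hh' => ?_⟩
  · rw [Category.comp_id] at hk
    subst hk
    have sqT := hp.1.isPullback (sec A)
    have := Groth.L23.epi_of_repWith _ (Groth.L23.repWith_of_isPullback sqT hp)
      (Groth.L23.repWith_of_isPullback sqT hps)
    rw [← cancel_epi ((yon S).map (hp.1.snd (sec A)))]
    have h1 := comp_val_eq hπ hh₀ A (hp.1.snd (sec A)) (hp.1.fst (sec A)) (hp.1.w (sec A))
    rw [← h1, ← hph, reassoc_of% (hp.1.w (sec A))]
  · rw [← cancel_epi p, hph]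
    refine cond_unique hM hf hN hy ?_ hh₀
    have := cond_comp hh' p
    rwa [Category.comp_id] at this

/-- Base change along a flat morphism is a categorical moduli space. -/
theorem isCatModuli_fpFst (hπ : FibCat.IsFibGrpd 𝒳.p) (hM : IsAlgSpace M) (hM' : IsAlgSpace M')
    (hg : LocP @Flat g) (hf : AffHyp π) :
    AlgSt.IsCatModuli (FibCat.fpFst (AlgSt.ofSpMap g) π) := by
  refine ⟨hM', fun N hN Φ => ?_⟩
  have key : ∀ h : M' ⟶ N, Cond Φ (𝟙 M') h ↔
      Nonempty (BasedFunctor.comp (FibCat.fpFst (AlgSt.ofSpMap g) π) (AlgSt.ofSpMap h) ≅ Φ) := by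
    intro h
    constructor
    · intro hc
      refine ⟨eqToIso (Groth.L24.QuotMor.basedFunctor_ext fun A => ?_)⟩
      have h1 := congrArg (J S).uliftYonedaEquiv.{u + 1} (hc A (sec A) (Category.comp_id _))
      rw [GrothendieckTopology.uliftYonedaEquiv_comp, val, sec, Equiv.apply_symm_apply,
        Equiv.apply_symm_apply] at h1
      have h2 : N.obj.map (𝟙 (op A.obj.fst.base)) (h.hom.app (op A.obj.fst.base) A.obj.fst.sec) =
          AlgSt.fibSec Φ ⟨A, rfl⟩ := by
        rw [Functor.map_id_apply]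
        exact h1
      exact h2
    · rintro ⟨e⟩ A k hk
      rw [Category.comp_id] at hk
      subst hk
      apply (J S).uliftYonedaEquiv.{u + 1}.injective
      rw [GrothendieckTopology.uliftYonedaEquiv_comp, val, sec, Equiv.apply_symm_apply,
        Equiv.apply_symm_apply]
      have h1 := congrArg (fun F => AlgSt.fibSec F (T := (FibCat.fp (AlgSt.ofSpMap g) π).p.obj A) ⟨A, rfl⟩)
        (Groth.L24.QuotMor.eq_of_iso e)
      have h2 : N.obj.map (𝟙 (op A.obj.fst.base)) (h.hom.app (op A.obj.fst.base) A.obj.fst.sec) =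
          AlgSt.fibSec Φ ⟨A, rfl⟩ := h1
      rw [Functor.map_id_apply] at h2
      exact h2
  simpa only [key] using existsUnique_cond (Φ := Φ) hπ hM hM' hg hf hN

/-- An object of the fibre product along the identity over every object of `𝒳`. -/
theorem exists_obj_id (x : 𝒳.obj) :
    ∃ A : (FibCat.fp (AlgSt.ofSpMap (𝟙 M)) π).obj, A.obj.snd = x ∧ A.obj.fst = π.obj x :=
  ⟨⟨{ fst := π.obj x, snd := x, iso := eqToIso rfl },
    by
      show (AlgSt.ofSp M).p.IsHomLift _ (𝟙 (π.obj x))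
      exact IsHomLift.id rfl⟩, rfl, rfl⟩

/-- The categorical moduli property itself follows from that of the trivial base change. -/
theorem isCatModuli_of_id (h : AlgSt.IsCatModuli (FibCat.fpFst (AlgSt.ofSpMap (𝟙 M)) π)) :
    AlgSt.IsCatModuli π := by
  refine ⟨h.1, fun N hN φ => ?_⟩
  have key : ∀ a : M ⟶ N, Nonempty (BasedFunctor.comp π (AlgSt.ofSpMap a) ≅ φ) ↔
      Nonempty (BasedFunctor.comp (FibCat.fpFst (AlgSt.ofSpMap (𝟙 M)) π) (AlgSt.ofSpMap a) ≅
        BasedFunctor.comp (FibCat.fpSnd (AlgSt.ofSpMap (𝟙 M)) π) φ) := by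
    intro a
    constructor
    · rintro ⟨e⟩
      have e1 := FibCat.fpIso (AlgSt.ofSpMap (𝟙 M)) π
      have h1 := Groth.L24.QuotMor.eq_of_iso e1
      have h2 : BasedFunctor.comp (FibCat.fpFst (AlgSt.ofSpMap (𝟙 M)) π) (AlgSt.ofSpMap a) =
          BasedFunctor.comp (BasedFunctor.comp (FibCat.fpFst (AlgSt.ofSpMap (𝟙 M)) π)
            (AlgSt.ofSpMap (𝟙 M))) (AlgSt.ofSpMap a) := rfl
      rw [h2, h1]
      exact ⟨eqToIso (congrArg (BasedFunctor.comp (FibCat.fpSnd (AlgSt.ofSpMap (𝟙 M)) π))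
        (Groth.L24.QuotMor.eq_of_iso e))⟩
    · rintro ⟨e⟩
      refine ⟨eqToIso (Groth.L24.QuotMor.basedFunctor_ext fun x => ?_)⟩
      have h1 := Groth.L24.QuotMor.eq_of_iso e
      have key' : ∀ B : (FibCat.fp (AlgSt.ofSpMap (𝟙 M)) π).obj,
          ((AlgSt.ofSpMap a).obj B.obj.fst) = φ.obj B.obj.snd := fun B =>
        congrArg (fun F : FibCat.fp (AlgSt.ofSpMap (𝟙 M)) π ⥤ᵇ AlgSt.ofSp N => F.obj B) h1
      obtain ⟨A, hA₁, hA₂⟩ := exists_obj_id (π := π) x
      have h3 : (BasedFunctor.comp π (AlgSt.ofSpMap a)).obj x = φ.obj x := by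
        rw [← hA₁]
        show (AlgSt.ofSpMap a).obj (π.obj A.obj.snd) = _
        rw [← key' A, hA₂, hA₁]
      unfold AlgSt.fibSec
      have transport : ∀ (b c : (AlgSt.ofSp N).obj) (T : Over S) (hb : b.base = T) (hc : c.base = T),
          b = c → N.obj.map (eqToHom hb.symm).op b.sec = N.obj.map (eqToHom hc.symm).op c.sec := by
        rintro b c T hb hc rfl
        rfl
      exact transport _ _ _ ((BasedFunctor.comp π (AlgSt.ofSpMap a)).w_obj x) (φ.w_obj x) h3
  simpa only [key] using h.2 N hN _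

end Groth.L24.FlatLocal
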