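import Groth.Prelude.Def_StCoarse
import Groth.Prelude.Def_AlgSt4
import Groth.Agent.L24.QuotMor.Desc
import Groth.Agent.L24.St.FlatCover
import Groth.Agent.L24.St.MonoLocal
import Groth.Agent.L24.St.Chart
import Groth.Agent.L24.LocQ.Descent
import Groth.Agent.L23.AlgSpace
import Groth.Agent.L23.AffineMor

/-!
# A section of a map bijective on geometric points gives a coarse moduli space
-/

set_option autoImplicit false
set_option linter.style.haveILetI false
set_option backward.isDefEq.respectTransparency false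
set_option backward.isDefEq.respectTransparency.types false

universe u

open CategoryTheory CategoryTheory.Limits AlgebraicGeometry Opposite AlgSt

noncomputable section

namespace Groth.L24.ReducedSection

open Groth.L24.St

variable {S : Scheme.{u}} {𝒳 : AlgSt.Cat S} {N : AlgSp.Sp S}

/-- The map of sheaves of a functor restricted to an object over a scheme. -/
def ev {T : Over S} (x : FibCat.overCat T ⥤ᵇ 𝒳) (φ : 𝒳 ⥤ᵇ ofSp N) : (AlgSp.yon S).obj T ⟶ N :=
  spMap (BasedFunctor.comp (toOverCat T) (BasedFunctor.comp x φ))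

lemma epi_of_cover {G : AlgSp.Space S} {U : Over S} (π : G.obj ⟶ (AlgSp.yon S).obj U)
    (h : AlgSp.IsFppfCover (ι := PUnit.{u + 1}) (fun _ => G.obj) (fun _ => π)) : Epi π := by
  obtain ⟨V, p, hp, hps⟩ := G.property.atlas
  obtain ⟨q, hq⟩ := (AlgSp.yon S).map_surjective (p ≫ π)
  have h1 := (h.1 PUnit.unit).1
  have h2 := (h.1 PUnit.unit).2
  have hY := AlgSp.IsAlgSpace.yon_obj (S := S)
  have : Flat q.left := (Groth.L24.LocQ.locP_map_iff Groth.L23.etLocal_flat q).1 (by
    rw [hq]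
    exact Groth.L23.locP_comp Groth.L23.etLocal_flat (hY V) G.property (hY U)
      (locP_of_repWith_etale (fun _ _ => inferInstance) hp) h1)
  have : LocallyOfFinitePresentation q.left :=
    (Groth.L24.LocQ.locP_map_iff Groth.L23.etLocal_lfp q).1 (by
      rw [hq]
      exact Groth.L23.locP_comp Groth.L23.etLocal_lfp (hY V) G.property (hY U)
        (locP_of_repWith_etale (fun _ _ => inferInstance) hp) h2)
  have : Surjective q.left := (AlgSp.repWith_yon_map_iff _ _).1 (by
    refine Groth.L23.repWith_surjective_of_map (AlgSp.representable_of_yon _) fun z => ?_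
    obtain ⟨⟨⟩, z', hz'⟩ := h.2 z
    obtain ⟨v, hv⟩ := Groth.L23.surjective_map_of_repWith hps z'
    refine ⟨v, ?_⟩
    rw [hq, AlgSp.Points.map_comp]
    show AlgSp.Points.map π (AlgSp.Points.map p v) = z
    exact (congrArg _ hv).trans hz')
  refine ⟨fun {X} a b hab => Groth.L24.St.hom_ext_of_cover (fun _ : PUnit.{u + 1} => V) (fun _ => q)
    (fun _ => inferInstance) (fun _ => inferInstance) (fun t => ⟨⟨⟩, q.left.surjective t⟩) fun _ => ?_⟩
  rw [hq, Category.assoc, Category.assoc, hab]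

/-- Functors into a sheaf agree when they agree on a smooth atlas. -/
theorem ext_of_atlas (hg : FibCat.IsFibGrpd 𝒳.p) {U : Over S} {x : FibCat.overCat U ⥤ᵇ 𝒳}
    (hx : RepByAlgSpWith (AlgSp.LocP @Smooth) x) (hxs : RepByAlgSpWith AlgSp.IsSurjectiveMor x)
    {φ ψ : 𝒳 ⥤ᵇ ofSp N} (h : ev x φ = ev x ψ) : φ = ψ := by
  refine Groth.L24.QuotMor.basedFunctor_ext fun A => ?_
  obtain ⟨yA, i, hi⟩ := exists_overCat_functor hg A rfl
  have hz₁ : RepByAlgSpWith (AlgSp.LocP @Flat) x := fun T y => by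
    obtain ⟨F, e, he, hF⟩ := hx T y
    exact ⟨F, e, he, Groth.L23.locP_mono (fun f hf => (by have : Smooth f := hf; infer_instance)) hF⟩
  have hz₂ : RepByAlgSpWith (AlgSp.LocP @LocallyOfFinitePresentation) x := fun T y => by
    obtain ⟨F, e, he, hF⟩ := hx T y
    exact ⟨F, e, he, Groth.L23.locP_mono (fun f hf => (by have : Smooth f := hf; infer_instance)) hF⟩
  obtain ⟨G, π, ζ, hπ, ⟨iζ⟩⟩ := exists_cover hz₁ hz₂ hxs yA
  have := epi_of_cover π hπ
  have hx' : BasedFunctor.comp x φ = BasedFunctor.comp x ψ := by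
    have h1 : BasedFunctor.comp (toOverCat U) (BasedFunctor.comp x φ) =
        BasedFunctor.comp (toOverCat U) (BasedFunctor.comp x ψ) :=
      Groth.L24.QuotMor.eq_of_iso (isoOfSpMapEq h)
    exact congrArg (BasedFunctor.comp (ofOverCat U)) h1
  have h2 : ev yA φ = ev yA ψ := by
    rw [← cancel_epi π, ← spMap_ofSpMap π, ev, ev, ← spMap_comp, ← spMap_comp]
    refine (spMap_congr (whiskerR iζ φ)).trans (Eq.trans ?_ (spMap_congr (whiskerR iζ ψ)).symm)
    show spMap (BasedFunctor.comp ζ (BasedFunctor.comp x φ)) =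
      spMap (BasedFunctor.comp ζ (BasedFunctor.comp x ψ))
    rw [hx']
  have h3 : BasedFunctor.comp yA φ = BasedFunctor.comp yA ψ :=
    congrArg (BasedFunctor.comp (ofOverCat (𝒳.p.obj A)))
      (Groth.L24.QuotMor.eq_of_iso (isoOfSpMapEq h2))
  have h4 : fibSec φ ⟨yA.obj (idObj _), rfl⟩ = fibSec ψ ⟨yA.obj (idObj _), rfl⟩ := by
    have hw := yA.w_obj (idObj (𝒳.p.obj A))
    have key : ∀ (χ : 𝒳 ⥤ᵇ ofSp N),
        fibSec χ ⟨yA.obj (idObj _), rfl⟩ = N.obj.map (eqToHom hw).op
          (fibSec (BasedFunctor.comp yA χ) (T := 𝒳.p.obj A) ⟨idObj _, rfl⟩) := by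
      intro χ
      have transport : ∀ (b : (ofSp N).obj) (T T' : Over S) (h : T = T') (hb : b.base = T)
          (hb' : b.base = T'), N.obj.map (eqToHom hb.symm).op b.sec =
            N.obj.map (eqToHom h).op (N.obj.map (eqToHom hb'.symm).op b.sec) := by
        rintro b T T' rfl hb hb'
        simp
      exact transport _ _ _ hw (χ.w_obj _) ((χ.w_obj _).trans hw)
    rw [key, key, h3]
  rw [← Groth.L24.QuotMor.fibSec_map φ i.inv, ← Groth.L24.QuotMor.fibSec_map ψ i.inv, h4]

/-- Morphisms to an algebraic space agreeing on a finite surjective cover of a reduced scheme agree. -/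
theorem hom_ext_of_finite (hN : AlgSp.IsAlgSpace N) {W T : Over S} (i : W ⟶ T) [IsFinite i.left]
    [Surjective i.left] [IsReduced T.left] {α β : (AlgSp.yon S).obj T ⟶ N}
    (h : (AlgSp.yon S).map i ≫ α = (AlgSp.yon S).map i ≫ β) : α = β := by
  have hd := Groth.L23.lft_diag hN
  have sq : IsPullback (hN.diag.fst (prod.lift α β))
      ((AlgSp.yon S).map (hN.diag.snd (prod.lift α β))) (Limits.diag N) (prod.lift α β) :=
    hN.diag.isPullback _
  obtain ⟨e, he_def⟩ : ∃ e, e = hN.diag.snd (prod.lift α β) := ⟨_, rfl⟩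
  rw [← he_def] at sq
  have he : LocallyOfFiniteType e.left := hd.2 _ _ _ sq
  let l := sq.lift ((AlgSp.yon S).map i ≫ α) ((AlgSp.yon S).map i) (by
    apply prod.hom_ext <;> simp [h])
  obtain ⟨l', hl'⟩ := (AlgSp.yon S).map_surjective l
  have e1 : l'.left ≫ e.left = i.left :=
    congrArg CommaMorphism.left ((AlgSp.yon S).map_injective (show (AlgSp.yon S).map (l' ≫ e) = _ by
      rw [Functor.map_comp, hl']
      exact sq.lift_snd _ _ _))
  have : Mono ((AlgSp.yon S).map e) := by
    have : Mono (Limits.diag N) := inferInstance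
    exact PullbackCone.mono_snd_of_is_pullback_of_mono sq.isLimit
  have : Mono e := (AlgSp.yon S).mono_of_mono_map this
  have : Mono e.left := Over.mono_left_of_mono e
  have : Surjective e.left := by
    have : Surjective (l'.left ≫ e.left) := by rw [e1]; infer_instance
    exact Surjective.of_comp l'.left e.left
  have hls : Surjective l'.left := ⟨fun z => by
    obtain ⟨w, hw⟩ := i.left.surjective (e.left z)
    refine ⟨w, (Scheme.Hom.injective e.left) ?_⟩
    rw [← Scheme.Hom.comp_apply, e1, hw]⟩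
  have : UniversallyClosed (l'.left ≫ e.left) := by rw [e1]; infer_instance
  have : UniversallyClosed e.left := UniversallyClosed.of_comp_surjective l'.left e.left
  have : QuasiCompact (l'.left ≫ e.left) := by rw [e1]; infer_instance
  have : QuasiCompact e.left := by infer_instance
  have : IsProper e.left := ⟨⟩
  have : IsClosedImmersion e.left := (IsClosedImmersion.iff_isProper_and_mono e.left).2 ⟨‹_›, ‹_›⟩
  have : IsIso e.left := isIso_of_isClosedImmersion_of_surjective e.left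
  have : IsIso ((Over.forget S).map e) := ‹IsIso e.left›
  have : IsIso e := isIso_of_reflects_iso e (Over.forget S)
  rw [← cancel_epi ((AlgSp.yon S).map e)]
  have w1 := congrArg (fun t => t ≫ prod.fst) sq.w
  have w2 := congrArg (fun t => t ≫ prod.snd) sq.w
  simp at w1 w2
  rw [← w1, ← w2]

theorem toSelf_eq {𝒲 : BasedCategory.{u, u + 1} (Over S)} (F G : 𝒲 ⥤ᵇ FibCat.selfOver (Over S)) :
    F = G := by
  obtain ⟨F, hF⟩ := F
  obtain ⟨G, hG⟩ := G
  congr 1
  exact (Functor.comp_id F).symm.trans (hF.trans (hG.symm.trans (Functor.comp_id G)))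

/-- The universal property. -/
theorem isCoarseModuli (h𝒳 : AlgSt.IsAlgStack Scheme.fppfPrecoverage 𝒳)
    (hΔ : AlgSt.RepByAlgSpWith AlgSp.IsFiniteMor (FibCat.diag (FibCat.toSelf 𝒳)))
    (hred : AlgSt.SmoothLocally (fun X => AlgebraicGeometry.IsReduced X) 𝒳)
    {Z : AlgSp.Sp S} (hZ : AlgSp.IsAlgSpace Z) (f : 𝒳 ⥤ᵇ AlgSt.ofSp Z) (hf : AlgSt.GeomPtBij f)
    (s : AlgSt.ofSp Z ⥤ᵇ 𝒳) (e : BasedFunctor.comp s f ≅ BasedFunctor.id (AlgSt.ofSp Z)) :
    AlgSt.IsCoarseModuli f := by
  have hg := h𝒳.isStack.1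
  have hsf := Groth.L24.QuotMor.eq_of_iso e
  refine ⟨⟨hZ, fun N hN φ => ?_⟩, hf⟩
  suffices hmain : φ = BasedFunctor.comp f (BasedFunctor.comp s φ) by
    refine ⟨spMap (BasedFunctor.comp s φ), ?_, fun g' hg' => ?_⟩
    · have h1 := Groth.L24.QuotMor.eq_of_iso (isoOfSpMap (BasedFunctor.comp s φ))
      exact ⟨eqToIso ((congrArg (BasedFunctor.comp f) h1).symm.trans hmain.symm)⟩
    · obtain ⟨i⟩ := hg'
      rw [← spMap_ofSpMap g']
      refine spMap_congr (eqToIso ?_)
      have h1 := congrArg (BasedFunctor.comp s) (Groth.L24.QuotMor.eq_of_iso i)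
      have h2 : BasedFunctor.comp s (BasedFunctor.comp f (ofSpMap g')) =
          BasedFunctor.comp (BasedFunctor.comp s f) (ofSpMap g') := rfl
      rw [h2, hsf] at h1
      exact h1
  obtain ⟨U, x, hx, hxs⟩ := h𝒳.atlas
  have := hred U x hx
  refine ext_of_atlas hg hx hxs ?_
  let y := BasedFunctor.comp (BasedFunctor.comp x f) s
  let w : FibCat.overCat U ⥤ᵇ FibCat.fp (FibCat.toSelf 𝒳) (FibCat.toSelf 𝒳) :=
    FibCat.fpLift x y (eqToIso (toSelf_eq _ _))
  obtain ⟨F, E, hE, ha⟩ := hΔ U w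
  let a := spMapOfOver (BasedFunctor.comp E (FibCat.fpFst w (FibCat.diag (FibCat.toSelf 𝒳))))
  have hsurj : AlgSp.IsSurjectiveMor a := by
    refine (surjective_spMapOfOver_iff _).2 fun z => ?_
    suffices ∃ v, Points.map (FibCat.fpFst w (FibCat.diag (FibCat.toSelf 𝒳))) v = z by
      obtain ⟨v, hv⟩ := this
      obtain ⟨v', hv'⟩ := (bijective_map_of_isEquivOver hE).surjective v
      exact ⟨v', by rw [map_comp_apply, hv', hv]⟩
    obtain ⟨p, rfl⟩ := Points.mk_surjective z
    let Ω := AlgebraicClosure p.K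
    let str : Spec (CommRingCat.of Ω) ⟶ S :=
      Spec.map (CommRingCat.ofHom (algebraMap p.K Ω)) ≫ p.str
    let ext : Over.mk str ⟶ p.obj.left :=
      Over.homMk (U := Over.mk str) (V := Over.mk p.str)
        (Spec.map (CommRingCat.ofHom (algebraMap p.K Ω))) rfl ≫ eqToHom p.lies.symm
    let τ : (FibCat.overCat U).obj := Over.mk (ext ≫ p.obj.hom)
    let q : FPt (FibCat.overCat U) := { K := Ω, str := str, obj := τ, lies := rfl }
    rw [← mk_eq_of_hom (p := q) (q := p) (Over.homMk ext rfl)]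
    have hwx : 𝒳.p.obj (x.obj τ) = Over.mk str := x.w_obj τ
    have hwy : 𝒳.p.obj (y.obj τ) = Over.mk str := y.w_obj τ
    have hsec : fibSec f (T := Over.mk str) ⟨x.obj τ, hwx⟩ =
        fibSec f (T := Over.mk str) ⟨y.obj τ, hwy⟩ := by
      have transport : ∀ (b c : (AlgSt.ofSp Z).obj) (T : Over S) (hb : b.base = T) (hc : c.base = T),
          b = c → Z.obj.map (eqToHom hb.symm).op b.sec = Z.obj.map (eqToHom hc.symm).op c.sec := by
        rintro b c T hb hc rfl
        rfl
      refine transport _ _ _ ((f.w_obj _).trans hwx) ((f.w_obj _).trans hwy) ?_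
      exact (congrArg (fun G : AlgSt.ofSp Z ⥤ᵇ AlgSt.ofSp Z => G.obj (f.obj (x.obj τ))) hsf).symm
    obtain ⟨i⟩ := (hf Ω str).2 _ _ hsec
    let qX : FPt 𝒳 := { K := Ω, str := str, obj := x.obj τ, lies := hwx }
    let qY : FPt (FibCat.fp (FibCat.toSelf 𝒳) (FibCat.toSelf 𝒳)) := q.map w
    haveI := i.hom.2
    have hi := IsHomLift.fac' 𝒳.p (𝟙 (Over.mk str)) i.hom.1
    let m : (qX.map (FibCat.diag (FibCat.toSelf 𝒳))).obj ⟶ qY.obj :=
      ObjectProperty.homMk
        { fst := 𝟙 _
          snd := i.hom.1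
          w := by
            show 𝒳.p.map (𝟙 _) ≫ _ = _ ≫ 𝒳.p.map i.hom.1
            rw [hi]
            simp [qY, qX, q, FPt.map, FibCat.diag, FibCat.fpLift, w]
            have key : ∀ {F G : FibCat.overCat U ⥤ᵇ FibCat.selfOver (Over S)} (h : F = G),
                (eqToHom h).app τ = eqToHom (congrArg (fun H : FibCat.overCat U ⥤ᵇ FibCat.selfOver (Over S) => H.obj τ) h) := by
              rintro F G rfl
              rfl
            refine (key _).trans ?_
            exact (Category.id_comp _).symm }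
    obtain ⟨v, hv, -⟩ := exists_points_fp hg
      (L09.Fib.fp_isFibGrpd hg hg (L09.Fib.isFibSet_id (Over S)).1)
      (overCat_isFibGrpd U) (FibCat.diag (FibCat.toSelf 𝒳)) w (Points.mk q) (Points.mk qX)
      (mk_eq_of_hom (p := qX.map (FibCat.diag (FibCat.toSelf 𝒳))) (q := qY) m).symm
    exact ⟨v, hv⟩
  have ha' : AlgSp.RepWith @IsFinite a := Groth.L23.isFiniteMor_iff.1 ha
  have sqW : IsPullback (ha'.1.fst (𝟙 ((AlgSp.yon S).obj U)))
      ((AlgSp.yon S).map (ha'.1.snd (𝟙 ((AlgSp.yon S).obj U)))) a (𝟙 _) := ha'.1.isPullback _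
  obtain ⟨i, hi_def⟩ : ∃ i, i = ha'.1.snd (𝟙 ((AlgSp.yon S).obj U)) := ⟨_, rfl⟩
  rw [← hi_def] at sqW
  generalize ha'.1.fst (𝟙 ((AlgSp.yon S).obj U)) = q at sqW
  have : IsFinite i.left := ha'.2 _ _ _ sqW
  have : Surjective i.left := (Groth.L23.repWith_surjective_of_map ha'.1 hsurj).2 _ _ _ sqW
  have hqa : q ≫ a = (AlgSp.yon S).map i := by simpa using sqW.w
  refine hom_ext_of_finite hN i ?_
  rw [← hqa, Category.assoc, Category.assoc]
  congr 1
  let P := FibCat.fpFst w (FibCat.diag (FibCat.toSelf 𝒳))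
  let Q := FibCat.fpSnd w (FibCat.diag (FibCat.toSelf 𝒳))
  have iE := FibCat.fpIso w (FibCat.diag (FibCat.toSelf 𝒳))
  have i1 : BasedFunctor.comp (BasedFunctor.comp E P) x ≅ BasedFunctor.comp E Q :=
    whiskerL E (whiskerR iE (FibCat.fpFst _ _))
  have i2 : BasedFunctor.comp (BasedFunctor.comp E P) y ≅ BasedFunctor.comp E Q :=
    whiskerL E (whiskerR iE (FibCat.fpSnd _ _))
  have i3 := overFactor (BasedFunctor.comp E P)
  rw [← spMap_ofSpMap a, ev, ev, ← spMap_comp, ← spMap_comp]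
  exact spMap_congr (whiskerR (whiskerR i3.symm x ≪≫ i1 ≪≫ i2.symm ≪≫ whiskerR i3 y) φ)

end Groth.L24.ReducedSection
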