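import Groth.Agent.L24.Moduli.WNAProps

/-!
# The moduli space of a well-nigh affine stack
-/

set_option autoImplicit false
set_option backward.isDefEq.respectTransparency false
set_option backward.isDefEq.respectTransparency.types false

universe u

open CategoryTheory AlgebraicGeometry AlgSt

namespace Groth.L24.WNAModuli

open Groth.L24.St

/-- A well-nigh affine stack has an affine uniform categorical moduli space with a universally homeomorphic map. -/
theorem exists_moduli {S : Scheme.{u}} {𝒳 : AlgSt.Cat S} (h𝒳 : IsAlgStack Scheme.fppfPrecoverage 𝒳)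
    (hw : IsWellNighAffine 𝒳) :
    ∃ (M : Over S) (π : 𝒳 ⥤ᵇ ofSch M), IsAffine M.left ∧ IsUnifCatModuli π ∧
      IsSeparatedMor π ∧ IsQuasiCompactMor Scheme.fppfPrecoverage π ∧
      IsUnivHomeo Scheme.fppfPrecoverage π := by
  have hw' := hw
  obtain ⟨U, x, hU, hx⟩ := hw'
  have hg := h𝒳.isStack.1
  have hxs : RepByAlgSpWith AlgSp.IsSurjectiveMor x := repWith_mono (fun _ _ _ _ h => h.1.1.1) hx
  have hfl : RepByAlgSpWith (AlgSp.LocP @Flat) x := repWith_mono (fun _ _ _ _ h => h.1.1.2) hx
  have hfin : RepByAlgSpWith AlgSp.IsFiniteMor x := repWith_mono (fun _ _ _ _ h => h.1.2) hx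
  have hlfp : RepByAlgSpWith (AlgSp.LocP @LocallyOfFinitePresentation) x := repWith_mono (fun _ _ _ _ h => h.2) hx
  obtain ⟨P, h₁, h₂, h₃⟩ := ChartGrpd.exists_rep hg h𝒳.isStack hfin hfl hlfp
  have hc := fun A => ChartDesc.chartable_mem x hg hfl hlfp hxs A
  exact ⟨space P, proj P hc, isAffine_Spec _, isUnifCatModuli P hc, separated P hc h𝒳 hw,
    quasiCompact P hc h𝒳 hxs, univHomeo P hc h𝒳 hxs (ChartDesc.exists_chart x hg hfl hlfp hxs)⟩

end Groth.L24.WNAModuli
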