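import Groth.Agent.L24.Moduli.ChartDesc
import Groth.Agent.L24.Moduli.ChartGrpd
import Groth.Agent.L24.Moduli.FlatLocal
import Groth.Agent.L24.AffQuot.Main
import Groth.Agent.L24.Quot.AffineIsQuot

/-!
# The spectrum of the invariants of a finite flat chart is a uniform categorical moduli space
-/

set_option autoImplicit false
set_option linter.style.haveILetI false
set_option backward.isDefEq.respectTransparency false
set_option backward.isDefEq.respectTransparency.types false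

universe u

open CategoryTheory CategoryTheory.Limits AlgebraicGeometry Opposite AlgSp TensorProduct

noncomputable section

namespace Groth.L24.WNAModuli

open Groth.L24.Multi Groth.L24.AffQuot
open Groth.L24.QuotMor (pt)
open Groth.Agent.L24.Quot (algR algD sAlg tAlg exists_dat toQuot_comp_eq isFinite_t desc_exists inv_toQuot)

attribute [local instance] algR algD Algebra.TensorProduct.rightAlgebra

/-- The structure map descends to the spectrum of the invariants. -/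
theorem exists_structure {S : Scheme.{u}} (G : Grpd.GroupoidScheme S) [IsAffine G.U] [IsFinite G.s]
    [Flat G.s] [LocallyOfFinitePresentation G.s] :
    ∃ σ : Spec (CommRingCat.of G.invariants) ⟶ S, G.toQuot ≫ σ = G.pU := by
  let V : (Spec (CommRingCat.of G.invariants)).Opens := ⊤
  have hinv : Groth.Agent.L24.Quot.Inv G (G.toQuot ⁻¹ᵁ V).ι ((G.toQuot ⁻¹ᵁ V).ι ≫ G.pU) := by
    intro T a b r h1 h2
    rw [← Category.assoc, ← Category.assoc, ← h1, ← h2, Category.assoc, Category.assoc, G.t_over, G.s_over]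
  obtain ⟨h, hh⟩ := desc_exists G V _ hinv
  have : IsIso (V.ι) := inferInstanceAs (IsIso (Scheme.topIso _).hom)
  refine ⟨inv V.ι ≫ h, ?_⟩
  have : IsIso ((G.toQuot ⁻¹ᵁ V).ι) := inferInstanceAs (IsIso (Scheme.topIso G.U).hom)
  rw [← cancel_epi (G.toQuot ⁻¹ᵁ V).ι, ← hh, ← reassoc_of% (morphismRestrict_ι G.toQuot V),
    IsIso.hom_inv_id_assoc]

variable {S : Scheme.{u}} {𝒳 : AlgSt.Cat S} {U : Over S} {x : FibCat.overCat U ⥤ᵇ 𝒳}
  {hg : FibCat.IsFibGrpd 𝒳.p}

theorem overId_eqToHom {𝒴 : AlgSt.Cat S} {a b : 𝒴.obj} (h : a = b) : Groth.L24.St.OverId (eqToHom h) := by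
  subst h
  exact Groth.L24.St.overId_id _

theorem elt_ext {N : Sp S} {a b : (AlgSt.ofSp N).obj} (hb : b.base = a.base)
    (h : N.obj.map (eqToHom hb.symm).op b.sec = a.sec) : a = b := by
  obtain ⟨T, s⟩ := a
  obtain ⟨T', s'⟩ := b
  obtain rfl : T' = T := hb
  simp at h
  rw [h]

theorem symm_yon {T Y : Over S} (k : T ⟶ Y) :
    (J S).uliftYonedaEquiv.{u + 1}.symm (ULift.up k : ((yon S).obj Y).obj.obj (op T)) = (yon S).map k :=
  (Equiv.symm_apply_eq _).2 ((J S).uliftYonedaEquiv_uliftYoneda_map k).symm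

section Objects

open Groth.L24.St

variable {Y' M₀ : Over S} {a : Y' ⟶ M₀} {π : 𝒳 ⥤ᵇ AlgSt.ofSch M₀} {q : U ⟶ M₀}
  (hπ : ∀ {T : Over S} (u : T ⟶ U), AlgSt.fibSec π ⟨ob x u, ChartDesc.w_ob u⟩ = ⟨u ≫ q⟩)

include hπ in
theorem obj_eq {T : Over S} (k : T ⟶ Y') (u : T ⟶ U) (h : k ≫ a = u ≫ q) :
    (AlgSt.ofSpMap ((yon S).map a)).obj ⟨T, ⟨k⟩⟩ = π.obj (ob x u) := by
  refine elt_ext ((π.w_obj _).trans (ChartDesc.w_ob u)) ?_
  show AlgSt.fibSec π ⟨ob x u, ChartDesc.w_ob u⟩ = (ULift.up (k ≫ a) : ((yon S).obj M₀).obj.obj (op T))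
  rw [hπ, h]

/-- The object of the base change at a pair of points. -/
def mkObj {T : Over S} (k : T ⟶ Y') (u : T ⟶ U) (h : k ≫ a = u ≫ q) :
    (FibCat.fp (AlgSt.ofSpMap ((yon S).map a)) π).obj :=
  fpObj ⟨T, ⟨k⟩⟩ (ob x u) (eqToIso (obj_eq hπ k u h)) (overId_eqToHom (obj_eq hπ k u h))

/-- A morphism from the object at a pair of points. -/
theorem exists_hom {T : Over S} (k : T ⟶ Y') (u : T ⟶ U) (h : k ≫ a = u ≫ q)
    (B : (FibCat.fp (AlgSt.ofSpMap ((yon S).map a)) π).obj)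
    (l : T ⟶ (FibCat.fp (AlgSt.ofSpMap ((yon S).map a)) π).p.obj B) (γ : ob x u ⟶ B.obj.snd)
    (hγ : 𝒳.p.IsHomLift l γ) (hk : l ≫ B.obj.fst.sec.down = k) :
    ∃ φ : mkObj hπ k u h ⟶ B, (FibCat.fp (AlgSt.ofSpMap ((yon S).map a)) π).p.map φ = l := by
  let F := AlgSt.ofSpMap ((yon S).map a)
  let f : (⟨T, ⟨k⟩⟩ : (AlgSt.ofSch Y').obj) ⟶ B.obj.fst := ⟨l, by
    show (ULift.up (l ≫ B.obj.fst.sec.down) : ((yon S).obj Y').obj.obj (op T)) = _
    rw [hk]⟩
  refine ⟨fpHom f γ ?_, rfl⟩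
  have h1 : (AlgSt.ofSch Y').p.IsHomLift l f := IsHomLift.map (AlgSt.ofSch Y').p f
  have : (AlgSt.ofSch M₀).p.IsHomLift l (F.map f) := BasedFunctor.preserves_isHomLift F l f
  have h2 : (AlgSt.ofSch M₀).p.IsHomLift (l ≫ 𝟙 _) (F.map f ≫ B.obj.iso.hom) := by
    have : (AlgSt.ofSch M₀).p.IsHomLift (𝟙 ((FibCat.fp F π).p.obj B)) B.obj.iso.hom := B.property
    infer_instance
  have h3 : (AlgSt.ofSch M₀).p.IsHomLift (𝟙 T ≫ l) ((eqToIso (obj_eq hπ k u h)).hom ≫ π.map γ) := by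
    have : (AlgSt.ofSch M₀).p.IsHomLift l (π.map γ) := BasedFunctor.preserves_isHomLift π l γ
    have : (AlgSt.ofSch M₀).p.IsHomLift (𝟙 T) (eqToIso (obj_eq hπ k u h)).hom :=
      (overId_eqToHom (obj_eq hπ k u h)).lift (rfl : (AlgSt.ofSch M₀).p.obj (F.obj ⟨T, ⟨k⟩⟩) = T)
    infer_instance
  rw [Category.comp_id] at h2
  rw [Category.id_comp] at h3
  have := h2
  have := h3
  show F.map f ≫ B.obj.iso.hom = (eqToIso (obj_eq hπ k u h)).hom ≫ π.map γ
  exact L09.Fib.setoid_ext (ofSp_isFibSetoid _) l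

include hπ in
theorem compat {T : Over S} (u : T ⟶ U) (B : (FibCat.fp (AlgSt.ofSpMap ((yon S).map a)) π).obj)
    (l : T ⟶ (FibCat.fp (AlgSt.ofSpMap ((yon S).map a)) π).p.obj B) (γ : ob x u ⟶ B.obj.snd)
    [𝒳.p.IsHomLift l γ] : (l ≫ B.obj.fst.sec.down) ≫ a = u ≫ q := by
  have hB : 𝒳.p.obj B.obj.snd = (FibCat.fp (AlgSt.ofSpMap ((yon S).map a)) π).p.obj B :=
    (FibCat.fpSnd (AlgSt.ofSpMap ((yon S).map a)) π).w_obj B
  have h1 := ChartDesc.fibSec_lift π (ChartDesc.w_ob u) hB l γ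
  rw [hπ] at h1
  have hBiso : (AlgSt.ofSch M₀).p.IsHomLift (𝟙 ((FibCat.fp (AlgSt.ofSpMap ((yon S).map a)) π).p.obj B)) B.obj.iso.hom :=
    B.property
  have h2 := Groth.L24.QuotMor.transport_sec B.obj.iso.hom (rfl : ((AlgSt.ofSpMap ((yon S).map a)).obj B.obj.fst).base =
      B.obj.fst.base) ((π.w_obj B.obj.snd).trans hB) (𝟙 _)
    (IsHomLift.fac' (AlgSt.ofSch M₀).p (𝟙 ((FibCat.fp (AlgSt.ofSpMap ((yon S).map a)) π).p.obj B)) B.obj.iso.hom)
  rw [op_id] at h2
  erw [Functor.map_id_apply] at h2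
  have h3 : AlgSt.fibSec π ⟨B.obj.snd, hB⟩ =
      (ULift.up (B.obj.fst.sec.down ≫ a) : ((yon S).obj M₀).obj.obj
        (op ((FibCat.fp (AlgSt.ofSpMap ((yon S).map a)) π).p.obj B))) := h2.trans (by
      simp
      rfl)
  rw [h3] at h1
  exact (Category.assoc _ _ _).trans (congrArg ULift.down h1)

end Objects

theorem ext_on_charts' (hc : ∀ A : 𝒳.obj, ChartDesc.chartable x A ∈ AlgSp.J S (𝒳.p.obj A)) {N : Sp S}
    {A : 𝒳.obj} {T : Over S} (hA : 𝒳.p.obj A = T) {m m' : N.obj.obj (op T)}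
    (h : ∀ (W : Over S) (a : W ⟶ T) (u : W ⟶ U) (φ : ob x u ⟶ A),
      𝒳.p.IsHomLift a φ → N.obj.map a.op m = N.obj.map a.op m') : m = m' := by
  subst hA
  exact ChartDesc.ext_on_charts hc h

/-- Being the identity condition is factorisation through the first projection. -/
theorem cond_id_iff {M M' N : Sp S} {π : 𝒳 ⥤ᵇ AlgSt.ofSp M} {g : M' ⟶ M}
    {Φ : FibCat.fp (AlgSt.ofSpMap g) π ⥤ᵇ AlgSt.ofSp N} (h : M' ⟶ N) :
    FlatLocal.Cond Φ (𝟙 M') h ↔
      Nonempty (BasedFunctor.comp (FibCat.fpFst (AlgSt.ofSpMap g) π) (AlgSt.ofSpMap h) ≅ Φ) := by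
  constructor
  · intro hc
    refine ⟨eqToIso (Groth.L24.QuotMor.basedFunctor_ext fun A => ?_)⟩
    have h1 := congrArg (J S).uliftYonedaEquiv.{u + 1} (hc A (FlatLocal.sec A) (Category.comp_id _))
    rw [GrothendieckTopology.uliftYonedaEquiv_comp, FlatLocal.val, FlatLocal.sec, Equiv.apply_symm_apply,
      Equiv.apply_symm_apply] at h1
    have h2 : N.obj.map (𝟙 (op A.obj.fst.base)) (h.hom.app (op A.obj.fst.base) A.obj.fst.sec) =
        AlgSt.fibSec Φ ⟨A, rfl⟩ := by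
      rw [Functor.map_id_apply]
      exact h1
    exact h2
  · rintro ⟨e⟩ A k hk
    rw [Category.comp_id] at hk
    subst hk
    apply (J S).uliftYonedaEquiv.{u + 1}.injective
    rw [GrothendieckTopology.uliftYonedaEquiv_comp, FlatLocal.val, FlatLocal.sec, Equiv.apply_symm_apply,
      Equiv.apply_symm_apply]
    have h1 := congrArg (fun F => AlgSt.fibSec F (T := (FibCat.fp (AlgSt.ofSpMap g) π).p.obj A) ⟨A, rfl⟩)
      (Groth.L24.QuotMor.eq_of_iso e)
    have h2 : N.obj.map (𝟙 (op A.obj.fst.base)) (h.hom.app (op A.obj.fst.base) A.obj.fst.sec) =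
        AlgSt.fibSec Φ ⟨A, rfl⟩ := h1
    rw [Functor.map_id_apply] at h2
    exact h2

/-- Base change of a finite map. -/
theorem finite_map {C A B C' : Type u} [CommRing C] [CommRing A] [CommRing B] [CommRing C'] [Algebra C A]
    [Algebra C B] [Algebra C C'] {f : A →ₐ[C] B} (hf : (f : A →+* B).Finite) :
    (Algebra.TensorProduct.map f (AlgHom.id C C') : A ⊗[C] C' →+* B ⊗[C] C').Finite := by
  classical
  letI := (f : A →+* B).toAlgebra
  obtain ⟨s, hs⟩ := (hf : Module.Finite A B).fg_top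
  let F : A ⊗[C] C' →+* B ⊗[C] C' := (Algebra.TensorProduct.map f (AlgHom.id C C') : A ⊗[C] C' →ₐ[C] B ⊗[C] C')
  show @Module.Finite (A ⊗[C] C') (B ⊗[C] C') _ _ F.toAlgebra.toModule
  letI := F.toAlgebra
  refine ⟨⟨s.image (fun b => b ⊗ₜ[C] (1 : C')), ?_⟩⟩
  rw [eq_top_iff]
  rintro z -
  induction z with
  | zero => exact zero_mem _
  | add x y hx hy => exact add_mem hx hy
  | tmul b c =>
    have hb : b ∈ Submodule.span A (s : Set B) := hs ▸ Submodule.mem_top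
    induction hb using Submodule.span_induction with
    | mem b' hb' =>
      have : b' ⊗ₜ[C] c = F (1 ⊗ₜ[C] c) * (b' ⊗ₜ[C] (1 : C')) := by simp [F]
      rw [this]
      exact Submodule.smul_mem _ _ (Submodule.subset_span (Finset.mem_image_of_mem _ hb'))
    | zero => rw [TensorProduct.zero_tmul]; exact zero_mem _
    | add x y _ _ hx hy => rw [TensorProduct.add_tmul]; exact add_mem hx hy
    | smul r x _ hx =>
      have : (r • x) ⊗ₜ[C] c = F (r ⊗ₜ[C] 1) * (x ⊗ₜ[C] c) := by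
        simp [F, Algebra.smul_def]
        rfl
      rw [this]
      exact Submodule.smul_mem _ _ hx

/-- A map of algebras after extension of scalars, linear over the new scalars. -/
def mapId {C A B : Type u} [CommRing C] [CommRing A] [CommRing B] [Algebra C A] [Algebra C B]
    (C' : Type u) [CommRing C'] [Algebra C C'] (f : A →ₐ[C] B) : A ⊗[C] C' →ₐ[C'] B ⊗[C] C' :=
  { (Algebra.TensorProduct.map f (AlgHom.id C C')).toRingHom with
    commutes' := fun c => by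
      show Algebra.TensorProduct.map f (AlgHom.id C C') (Algebra.TensorProduct.includeRight c) =
        Algebra.TensorProduct.includeRight c
      simp }

/-- Geometric transitivity after extension of scalars. -/
theorem harr_bc {C A B : Type u} [CommRing C] [CommRing A] [CommRing B] [Algebra C A] [Algebra C B]
    {s t : A →ₐ[C] B}
    (harr : ∀ (K : Type u) [Field K] [IsAlgClosed K] [Algebra C K] (z₀ z₁ : A →ₐ[C] K),
      ∃ r : B →ₐ[C] K, r.comp t = z₀ ∧ r.comp s = z₁)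
    {C' : Type u} [CommRing C'] [Algebra C C'] (K : Type u) [Field K] [IsAlgClosed K] [Algebra C' K]
    (z₀ z₁ : A ⊗[C] C' →ₐ[C'] K) :
    ∃ r : B ⊗[C] C' →ₐ[C'] K, r.comp (mapId C' t) = z₀ ∧ r.comp (mapId C' s) = z₁ := by
  letI : Algebra C K := ((algebraMap C' K).comp (algebraMap C C')).toAlgebra
  let ι : C' →ₐ[C] K := { algebraMap C' K with commutes' := fun _ => rfl }
  let res : (A ⊗[C] C' →ₐ[C'] K) → (A →ₐ[C] K) := fun z =>
    { z.toRingHom.comp (Algebra.TensorProduct.includeLeft : A →ₐ[C] A ⊗[C] C').toRingHom with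
      commutes' := fun c => by
        show z (algebraMap C A c ⊗ₜ[C] (1 : C')) = algebraMap C' K (algebraMap C C' c)
        rw [← z.commutes (algebraMap C C' c)]
        congr 1
        show algebraMap C A c ⊗ₜ[C] (1 : C') = (1 : A) ⊗ₜ[C] algebraMap C C' c
        rw [Algebra.algebraMap_eq_smul_one, Algebra.algebraMap_eq_smul_one, TensorProduct.smul_tmul] }
  obtain ⟨r, h₀, h₁⟩ := harr K (res z₀) (res z₁)
  let L : B ⊗[C] C' →ₐ[C] K := Algebra.TensorProduct.lift r ι fun _ _ => Commute.all _ _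
  refine ⟨{ L.toRingHom with
    commutes' := fun c => by
      show L ((1 : B) ⊗ₜ[C] c) = algebraMap C' K c
      simp [L, ι] }, ?_, ?_⟩
  all_goals
    apply AlgHom.ext
    intro z
    induction z with
    | zero => simp
    | add x y hx hy => simp only [map_add, hx, hy]
    | tmul a c => ?_
  · show L (t a ⊗ₜ[C] c) = z₀ (a ⊗ₜ[C] c)
    rw [show a ⊗ₜ[C] c = (a ⊗ₜ[C] (1 : C')) * algebraMap C' (A ⊗[C] C') c by
        show _ = (a ⊗ₜ[C] (1 : C')) * ((1 : A) ⊗ₜ[C] c)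
        simp, map_mul, z₀.commutes]
    show _ = res z₀ a * _
    rw [← h₀]
    simp [L, ι]
  · show L (s a ⊗ₜ[C] c) = z₁ (a ⊗ₜ[C] c)
    rw [show a ⊗ₜ[C] c = (a ⊗ₜ[C] (1 : C')) * algebraMap C' (A ⊗[C] C') c by
        show _ = (a ⊗ₜ[C] (1 : C')) * ((1 : A) ⊗ₜ[C] c)
        simp, map_mul, z₁.commutes]
    show _ = res z₁ a * _
    rw [← h₁]
    simp [L, ι]

variable (P : ChartGrpd.Rep x hg) [IsAffine U.left] [IsFinite P.src.left] [Flat P.src.left]
  [LocallyOfFinitePresentation P.src.left]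

instance : IsAffine P.grpd.U := ‹IsAffine U.left›
instance : IsFinite P.grpd.s := ‹IsFinite P.src.left›
instance : Flat P.grpd.s := ‹Flat P.src.left›
instance : LocallyOfFinitePresentation P.grpd.s := ‹LocallyOfFinitePresentation P.src.left›

/-- The structure map of the moduli space. -/
def base : Spec (CommRingCat.of P.grpd.invariants) ⟶ S := (exists_structure P.grpd).choose

theorem toQuot_base : P.grpd.toQuot ≫ base P = U.hom := (exists_structure P.grpd).choose_spec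

/-- The moduli space. -/
abbrev space : Over S := ov (base P) P.grpd.invariants

/-- The chart to the moduli space. -/
def toSpace : U ⟶ space P := Over.homMk P.grpd.toQuot (by
  show P.grpd.toQuot ≫ Spec.map (CommRingCat.ofHom (algebraMap P.grpd.invariants P.grpd.invariants)) ≫ base P = _
  rw [Algebra.algebraMap_self, CommRingCat.ofHom_id, Spec.map_id, Category.id_comp, toQuot_base])

theorem src_toSpace : P.src ≫ toSpace P = P.tgt ≫ toSpace P :=
  Over.OverMorphism.ext (toQuot_comp_eq P.grpd).symm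

theorem inv_toSpace : ChartDesc.Inv x ((yon S).map (toSpace P)) := fun T s => by
  show (ULift.up (s.v ≫ toSpace P) : ((yon S).obj (space P)).obj.obj (op T)) = ULift.up (s.w ≫ toSpace P)
  rw [← P.symm_v, ← P.symm_w, Category.assoc, Category.assoc, src_toSpace]

variable (hc : ∀ A : 𝒳.obj, ChartDesc.chartable x A ∈ AlgSp.J S (𝒳.p.obj A))

/-- The map to the moduli space. -/
def proj : 𝒳 ⥤ᵇ AlgSt.ofSch (space P) := ChartDesc.desc hg hc (inv_toSpace P)

theorem proj_ob {T : Over S} (u : T ⟶ U) :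
    AlgSt.fibSec (proj P hc) ⟨ob x u, ChartDesc.w_ob u⟩ = ⟨u ≫ toSpace P⟩ :=
  ChartDesc.pt_desc hg hc (inv_toSpace P) u

omit [IsAffine U.left] in
open FlatLocal in
/-- The universal property from the algebraic one, for any presentation of the base change of the chart. -/
theorem existsUnique_cond_of_alg (hc : ∀ A : 𝒳.obj, ChartDesc.chartable x A ∈ AlgSp.J S (𝒳.p.obj A))
    {Y' M₀ : Over S} {a₀ : Y' ⟶ M₀} {π : 𝒳 ⥤ᵇ AlgSt.ofSch M₀} {q : U ⟶ M₀}
    (hπ : ∀ {T : Over S} (u : T ⟶ U), AlgSt.fibSec π ⟨ob x u, ChartDesc.w_ob u⟩ = ⟨u ≫ q⟩)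
    {C' A' B' : Type u} [CommRing C'] [CommRing A'] [CommRing B'] [Algebra C' A'] [Algebra C' B']
    [Algebra.IsIntegral C' A'] (σ' : Spec (CommRingCat.of C') ⟶ S) (e : ov σ' C' ≅ Y')
    {s' t' : A' →ₐ[C'] B'} (ht : (t' : A' →+* B').Finite)
    (harr : ∀ (K : Type u) [Field K] [IsAlgClosed K] [Algebra C' K] (z₀ z₁ : A' →ₐ[C'] K),
      ∃ r : B' →ₐ[C'] K, r.comp t' = z₀ ∧ r.comp s' = z₁)
    (hinj : Function.Injective (algebraMap C' A'))
    (hfull : ∀ z, s' z = t' z → ∃ c, algebraMap C' A' c = z)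
    (u₀ : ov σ' A' ⟶ U) (hk : (ovMap σ' (Algebra.ofId C' A') ≫ e.hom) ≫ a₀ = u₀ ≫ q)
    (hlift : ∀ {W : Over S} (u : W ⟶ U) (kk : W ⟶ ov σ' C'), (kk ≫ e.hom) ≫ a₀ = u ≫ q →
      ∃ j : W ⟶ ov σ' A', j ≫ u₀ = u ∧ j ≫ ovMap σ' (Algebra.ofId C' A') = kk)
    (ar : Ar x (ov σ' B')) (hv : ar.v = ovMap σ' s' ≫ u₀) (hw : ar.w = ovMap σ' t' ≫ u₀)
    {N : Sp S} (hN : IsAlgSpace N) (Φ : FibCat.fp (AlgSt.ofSpMap ((yon S).map a₀)) π ⥤ᵇ AlgSt.ofSp N) :
    ∃! h : (yon S).obj Y' ⟶ N, Cond Φ (𝟙 _) h := by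
  let k₀ : ov σ' A' ⟶ Y' := ovMap σ' (Algebra.ofId C' A') ≫ e.hom
  let A₀ := mkObj hπ k₀ u₀ hk
  let g' : (yon S).obj (ov σ' A') ⟶ N := val Φ A₀
  have hcomm : ∀ {T : Over S} (l : T ⟶ ov σ' A'), (l ≫ k₀) ≫ a₀ = (l ≫ u₀) ≫ q := fun l =>
    (Category.assoc _ _ _).trans ((congrArg (l ≫ ·) hk).trans (Category.assoc _ _ _).symm)
  have hpull : ∀ {T : Over S} (l : T ⟶ ov σ' A'),
      val Φ (mkObj hπ (l ≫ k₀) (l ≫ u₀) (hcomm l)) = (yon S).map l ≫ g' := by
    intro T l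
    obtain ⟨φ, hφ⟩ := exists_hom hπ (l ≫ k₀) (l ≫ u₀) (hcomm l) A₀ l (pull x l rfl) inferInstance rfl
    rw [← map_val φ, hφ]
  have hinv : (yon S).map (ovMap σ' s') ≫ g' = (yon S).map (ovMap σ' t') ≫ g' := by
    have hkst : ovMap σ' s' ≫ k₀ = ovMap σ' t' ≫ k₀ := by
      simp only [k₀, ← Category.assoc, ← ovMap_comp]
      congr 2
      exact Subsingleton.elim _ _
    rw [← hpull (ovMap σ' s'), ← hpull (ovMap σ' t')]
    obtain ⟨v, w, φ, hφ⟩ := ar
    dsimp only at hv hw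
    subst hv hw
    obtain ⟨ψ, hψ⟩ := exists_hom hπ _ _ (hcomm (ovMap σ' s')) (mkObj hπ _ _ (hcomm (ovMap σ' t')))
      (𝟙 (ov σ' B')) φ hφ ((Category.id_comp _).trans hkst.symm)
    refine (map_val ψ).symm.trans ?_
    rw [hψ]
    exact (congrArg (· ≫ val Φ _) ((yon S).map_id (ov σ' B'))).trans (Category.id_comp _)
  obtain ⟨h', hh', huniq⟩ := existsUnique_desc σ' ht harr hinj hfull hN g' hinv
  refine ⟨(yon S).map e.inv ≫ h', fun B k hk' => ?_, fun h hh => ?_⟩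
  · rw [Category.comp_id] at hk'
    subst hk'
    apply (J S).uliftYonedaEquiv.{u + 1}.injective
    refine ext_on_charts' hc ((FibCat.fpSnd (AlgSt.ofSpMap ((yon S).map a₀)) π).w_obj B) fun W l u γ hγ => ?_
    rw [GrothendieckTopology.uliftYonedaEquiv_naturality, GrothendieckTopology.uliftYonedaEquiv_naturality]
    congr 1
    have hcomp := compat hπ u B l γ
    let kk : W ⟶ ov σ' C' := (l ≫ B.obj.fst.sec.down) ≫ e.inv
    have hkk : kk ≫ e.hom = l ≫ B.obj.fst.sec.down := by simp [kk]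
    obtain ⟨j, hju, hjk⟩ := hlift u kk (by rw [hkk]; exact hcomp)
    subst hju
    have hjk' : j ≫ k₀ = l ≫ B.obj.fst.sec.down := by
      rw [← hkk, ← hjk]
      exact (Category.assoc _ _ _).symm
    obtain ⟨φ, hφ⟩ := exists_hom hπ _ _ (hcomm j) B l γ hγ hjk'.symm
    have h4 := map_val (Φ := Φ) φ
    rw [hφ, hpull j] at h4
    rw [h4, ← hh', ← Functor.map_comp_assoc, hjk]
    have h6 : sec B = (yon S).map B.obj.fst.sec.down := symm_yon B.obj.fst.sec.down
    rw [h6, ← Functor.map_comp_assoc, ← Functor.map_comp_assoc]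
  · have hsecA : sec A₀ = (yon S).map k₀ := symm_yon k₀
    have h7 := hh A₀ (sec A₀) (Category.comp_id _)
    rw [hsecA, show val Φ A₀ = g' from rfl, Functor.map_comp, Category.assoc] at h7
    rw [← huniq _ h7, ← Functor.map_comp_assoc, e.inv_hom_id, CategoryTheory.Functor.map_id, Category.id_comp]

section Affine'

theorem hU_toQuot : P.grpd.U.isoSpec.inv ≫ P.grpd.toQuot =
    Spec.map (CommRingCat.ofHom (algebraMap P.grpd.invariants Γ(P.grpd.U, ⊤))) := by
  show P.grpd.U.isoSpec.inv ≫ P.grpd.U.toSpecΓ ≫ Spec.map (CommRingCat.ofHom P.grpd.invariants.subtype) = _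
  rw [← Scheme.isoSpec_hom, Iso.inv_hom_id_assoc]
  rfl

theorem htens {C : Type u} [CommRing C] (C' : Type u) [CommRing C'] [Algebra C C'] (D : Type u) [CommRing D]
    [Algebra C D] : (Algebra.TensorProduct.includeLeft : D →ₐ[C] D ⊗[C] C').toRingHom.comp (algebraMap C D) =
      (algebraMap C' (D ⊗[C] C')).comp (algebraMap C C') :=
  (Algebra.TensorProduct.includeLeft : D →ₐ[C] D ⊗[C] C').comp_algebraMap.trans
    (Algebra.TensorProduct.includeRight : C' →ₐ[C] D ⊗[C] C').comp_algebraMap.symm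

variable (C' : Type u) [CommRing C'] [Algebra P.grpd.invariants C']

/-- The base of the affine base change. -/
abbrev base' : Spec (CommRingCat.of C') ⟶ S :=
  Spec.map (CommRingCat.ofHom (algebraMap P.grpd.invariants C')) ≫ base P

/-- The base change of the chart. -/
def chart' : ov (base' P C') (Γ(P.grpd.U, ⊤) ⊗[P.grpd.invariants] C') ⟶ U :=
  Over.homMk (Spec.map (CommRingCat.ofHom (Algebra.TensorProduct.includeLeft :
    Γ(P.grpd.U, ⊤) →ₐ[P.grpd.invariants] Γ(P.grpd.U, ⊤) ⊗[P.grpd.invariants] C').toRingHom) ≫ P.grpd.U.isoSpec.inv) (by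
    show _ ≫ U.hom = Spec.map (CommRingCat.ofHom (algebraMap C' (Γ(P.grpd.U, ⊤) ⊗[P.grpd.invariants] C'))) ≫
      Spec.map (CommRingCat.ofHom (algebraMap P.grpd.invariants C')) ≫ base P
    rw [← toQuot_base P]
    show (Spec.map _ ≫ P.grpd.U.isoSpec.inv) ≫ P.grpd.toQuot ≫ base P = _
    rw [Category.assoc, reassoc_of% (hU_toQuot P), ← Spec.map_comp_assoc, ← Spec.map_comp_assoc,
      ← CommRingCat.ofHom_comp, ← CommRingCat.ofHom_comp, htens])

theorem isAffine_R : IsAffine P.grpd.R := isAffine_of_isAffineHom P.grpd.s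

/-- The base change of the arrows. -/
theorem exists_arrows : ∃ ar : Ar x (ov (base' P C') (Γ(P.grpd.R, ⊤) ⊗[P.grpd.invariants] C')),
    ar.v = ovMap (base' P C') (mapId C' (sAlg P.grpd)) ≫ chart' P C' ∧
      ar.w = ovMap (base' P C') (mapId C' (tAlg P.grpd)) ≫ chart' P C' := by
  have := isAffine_R P
  let r₁' : Spec (CommRingCat.of (Γ(P.grpd.R, ⊤) ⊗[P.grpd.invariants] C')) ⟶ P.R.left :=
    Spec.map (CommRingCat.ofHom (Algebra.TensorProduct.includeLeft :
      Γ(P.grpd.R, ⊤) →ₐ[P.grpd.invariants] Γ(P.grpd.R, ⊤) ⊗[P.grpd.invariants] C').toRingHom) ≫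
        P.grpd.R.isoSpec.inv
  have key : ∀ (p : P.grpd.R ⟶ P.grpd.U) (f : Γ(P.grpd.U, ⊤) →ₐ[P.grpd.invariants] Γ(P.grpd.R, ⊤)),
      p.appTop.hom = f.toRingHom → r₁' ≫ p = (ovMap (base' P C') (mapId C' f)).left ≫ (chart' P C').left := by
    intro p f hf
    show (Spec.map _ ≫ P.grpd.R.isoSpec.inv) ≫ p = Spec.map _ ≫ Spec.map _ ≫ P.grpd.U.isoSpec.inv
    rw [Category.assoc, ← Scheme.isoSpec_inv_naturality, ← Spec.map_comp_assoc, ← Spec.map_comp_assoc]
    congr 2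
    apply CommRingCat.hom_ext
    refine RingHom.ext fun z => ?_
    show (p.appTop.hom z) ⊗ₜ[P.grpd.invariants] (1 : C') =
      Algebra.TensorProduct.map f (AlgHom.id P.grpd.invariants C') (z ⊗ₜ[P.grpd.invariants] (1 : C'))
    rw [hf]
    simp
  have hs := key P.grpd.s (sAlg P.grpd) rfl
  have hr₁' : r₁' ≫ P.R.hom = Spec.map (CommRingCat.ofHom (algebraMap C' _)) ≫ base' P C' := by
    rw [← Over.w P.src, ← Category.assoc]
    show (r₁' ≫ P.grpd.s) ≫ U.hom = _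
    rw [hs, Category.assoc, Over.w (chart' P C')]
    exact Over.w (ovMap (base' P C') (mapId C' (sAlg P.grpd)))
  let r₁ : ov (base' P C') (Γ(P.grpd.R, ⊤) ⊗[P.grpd.invariants] C') ⟶ P.R := Over.homMk r₁' hr₁'
  exact ⟨P.η _ r₁, (P.η_v r₁).trans (Over.OverMorphism.ext hs),
    (P.η_w r₁).trans (Over.OverMorphism.ext (key P.grpd.t (tAlg P.grpd) rfl))⟩

variable {C'} [Module.Flat P.grpd.invariants C'] {Y' : Over S} (a₀ : Y' ⟶ space P)
  (e : ov (base' P C') C' ≅ Y')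
  (he : e.hom.left ≫ a₀.left = Spec.map (CommRingCat.ofHom (algebraMap P.grpd.invariants C')))
include he

omit [Module.Flat P.grpd.invariants C'] in
theorem chart'_compat :
    (ovMap (base' P C') (Algebra.ofId C' (Γ(P.grpd.U, ⊤) ⊗[P.grpd.invariants] C')) ≫ e.hom) ≫ a₀ =
      chart' P C' ≫ toSpace P := by
  apply Over.OverMorphism.ext
  show (Spec.map (CommRingCat.ofHom (algebraMap C' _)) ≫ e.hom.left) ≫ a₀.left =
    (Spec.map _ ≫ P.grpd.U.isoSpec.inv) ≫ P.grpd.toQuot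
  rw [Category.assoc, he, Category.assoc, hU_toQuot, ← Spec.map_comp, ← Spec.map_comp, ← CommRingCat.ofHom_comp,
    ← CommRingCat.ofHom_comp, htens]

omit [Module.Flat P.grpd.invariants C'] in
theorem chart'_lift {W : Over S} (u : W ⟶ U) (kk : W ⟶ ov (base' P C') C')
    (h : (kk ≫ e.hom) ≫ a₀ = u ≫ toSpace P) :
    ∃ j : W ⟶ ov (base' P C') (Γ(P.grpd.U, ⊤) ⊗[P.grpd.invariants] C'), j ≫ chart' P C' = u ∧
      j ≫ ovMap (base' P C') (Algebra.ofId C' (Γ(P.grpd.U, ⊤) ⊗[P.grpd.invariants] C')) = kk := by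
  have sq := isPullback_SpecMap_of_isPushout _ _ _ _
    (CommRingCat.isPushout_tensorProduct P.grpd.invariants Γ(P.grpd.U, ⊤) C')
  have hw : (u.left ≫ P.grpd.U.isoSpec.hom) ≫ Spec.map (CommRingCat.ofHom (algebraMap P.grpd.invariants Γ(P.grpd.U, ⊤))) =
      kk.left ≫ Spec.map (CommRingCat.ofHom (algebraMap P.grpd.invariants C')) := by
    rw [← hU_toQuot P, ← he, Category.assoc, Iso.hom_inv_id_assoc, ← Category.assoc]
    exact (congrArg (fun m => m.left) h).symm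
  have hj : sq.lift (u.left ≫ P.grpd.U.isoSpec.hom) kk.left hw ≫ (chart' P C').left = u.left := by
    refine (Category.assoc _ _ _).symm.trans ?_
    exact (congrArg (· ≫ P.grpd.U.isoSpec.inv) (sq.lift_fst _ _ _)).trans
      ((Category.assoc _ _ _).trans (by rw [Iso.hom_inv_id]; exact Category.comp_id _))
  let j : W ⟶ ov (base' P C') (Γ(P.grpd.U, ⊤) ⊗[P.grpd.invariants] C') :=
    Over.homMk (sq.lift (u.left ≫ P.grpd.U.isoSpec.hom) kk.left hw) (by
      rw [← Over.w (chart' P C'), ← Category.assoc, hj]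
      exact Over.w u)
  exact ⟨j, Over.OverMorphism.ext hj, Over.OverMorphism.ext (sq.lift_snd _ _ _)⟩

open FlatLocal in
theorem existsUnique_cond_affine {N : Sp S} (hN : IsAlgSpace N)
    (Φ : FibCat.fp (AlgSt.ofSpMap ((yon S).map a₀)) (proj P hc) ⥤ᵇ AlgSt.ofSp N) :
    ∃! h : (yon S).obj Y' ⟶ N, Cond Φ (𝟙 _) h := by
  have := isAffine_R P
  obtain ⟨d, hds, hdt, hfull⟩ := exists_dat P.grpd
  have : Algebra.IsIntegral P.grpd.invariants Γ(P.grpd.U, ⊤) := d.isIntegral (d.lifts_of_full hfull)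
  have := isIntegral_tensor_right (C := P.grpd.invariants) Γ(P.grpd.U, ⊤) C'
  obtain ⟨ar, hv, hw⟩ := exists_arrows P C'
  have hfin : (tAlg P.grpd : Γ(P.grpd.U, ⊤) →+* Γ(P.grpd.R, ⊤)).Finite := by
    obtain ⟨_, _, _⟩ := isFinite_t P.grpd
    exact P.grpd.t.finite_appTop
  have h1 := finite_map (C' := C') hfin
  have h2 : ∀ (K : Type u) [Field K] [IsAlgClosed K] [Algebra C' K]
      (z₀ z₁ : Γ(P.grpd.U, ⊤) ⊗[P.grpd.invariants] C' →ₐ[C'] K),
      ∃ r : Γ(P.grpd.R, ⊤) ⊗[P.grpd.invariants] C' →ₐ[C'] K,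
        r.comp (mapId C' (tAlg P.grpd)) = z₀ ∧ r.comp (mapId C' (sAlg P.grpd)) = z₁ :=
    fun K _ _ _ z₀ z₁ => harr_bc (fun K' _ _ _ y₀ y₁ => by
      obtain ⟨r, e₀, e₁⟩ := d.exists_arrow hfull K' y₀ y₁
      rw [hdt] at e₀
      rw [hds] at e₁
      exact ⟨r, e₀, e₁⟩) K z₀ z₁
  have h3 : Function.Injective (algebraMap C' (Γ(P.grpd.U, ⊤) ⊗[P.grpd.invariants] C')) :=
    includeRight_injective (A := Γ(P.grpd.U, ⊤)) Subtype.val_injective C'
  have h4 : ∀ z : Γ(P.grpd.U, ⊤) ⊗[P.grpd.invariants] C', mapId C' (sAlg P.grpd) z = mapId C' (tAlg P.grpd) z →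
      ∃ c : C', algebraMap C' (Γ(P.grpd.U, ⊤) ⊗[P.grpd.invariants] C') c = z :=
    fun z hz => mem_range_of_eq (s := sAlg P.grpd) (t := tAlg P.grpd) (fun b hb => ⟨⟨b, hb⟩, rfl⟩) C' z hz
  have h1' : (mapId C' (tAlg P.grpd) :
      Γ(P.grpd.U, ⊤) ⊗[P.grpd.invariants] C' →+* Γ(P.grpd.R, ⊤) ⊗[P.grpd.invariants] C').Finite := h1
  refine existsUnique_cond_of_alg (B' := Γ(P.grpd.R, ⊤) ⊗[P.grpd.invariants] C')
    (A' := Γ(P.grpd.U, ⊤) ⊗[P.grpd.invariants] C') hc (proj_ob P hc) (base' P C') e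
    (s' := mapId C' (sAlg P.grpd)) (t' := mapId C' (tAlg P.grpd)) h1' h2 h3 h4
    (chart' P C') ?_ ?_ ar hv hw hN Φ
  · exact chart'_compat P a₀ e he
  · exact fun u kk h => chart'_lift P a₀ e he u kk h

end Affine'


theorem affHyp : FlatLocal.AffHyp (proj P hc) := by
  intro Y' hY' a ha
  obtain ⟨a₀, rfl⟩ := (yon S).map_surjective a
  have hflat : Flat a₀.left := (Groth.L24.LocQ.locP_map_iff Groth.L23.etLocal_flat a₀).1 ha
  let C := P.grpd.invariants
  let φ : CommRingCat.of C ⟶ Γ(Y'.left, ⊤) := Spec.preimage (Y'.left.isoSpec.inv ≫ a₀.left)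
  have hφ : Spec.map φ = Y'.left.isoSpec.inv ≫ a₀.left := Spec.map_preimage _
  letI : Algebra C Γ(Y'.left, ⊤) := φ.hom.toAlgebra
  have hf : φ.hom.Flat := by
    rw [← HasRingHomProperty.Spec_iff (P := @Flat), hφ]
    infer_instance
  haveI : Module.Flat C Γ(Y'.left, ⊤) := hf
  let e : ov (Spec.map (CommRingCat.ofHom (algebraMap C Γ(Y'.left, ⊤))) ≫ base P) Γ(Y'.left, ⊤) ≅ Y' :=
    Over.isoMk Y'.left.isoSpec.symm (by
      show Y'.left.isoSpec.inv ≫ Y'.hom = Spec.map (CommRingCat.ofHom (algebraMap Γ(Y'.left, ⊤) Γ(Y'.left, ⊤))) ≫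
        Spec.map φ ≫ base P
      rw [Algebra.algebraMap_self, CommRingCat.ofHom_id, Spec.map_id, Category.id_comp, hφ, Category.assoc]
      congr 1
      rw [← Over.w a₀]
      show a₀.left ≫ Spec.map (CommRingCat.ofHom (algebraMap C C)) ≫ base P = _
      rw [Algebra.algebraMap_self, CommRingCat.ofHom_id, Spec.map_id]
      exact congrArg (a₀.left ≫ ·) (Category.id_comp _))
  refine ⟨IsAlgSpace.yon_obj Y', fun N hN Φ => ?_⟩
  simpa only [cond_id_iff] using existsUnique_cond_affine P hc a₀ e hφ.symm hN Φ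

/-- The spectrum of the invariants is a uniform categorical moduli space. -/
theorem isUnifCatModuli : AlgSt.IsUnifCatModuli (proj P hc) := by
  have hM := IsAlgSpace.yon_obj (space P)
  have h : ∀ {M' : Sp S}, IsAlgSpace M' → ∀ {g : M' ⟶ (yon S).obj (space P)}, LocP @Flat g →
      AlgSt.IsCatModuli (FibCat.fpFst (AlgSt.ofSpMap g) (proj P hc)) := fun hM' _ hg' =>
    FlatLocal.isCatModuli_fpFst hg hM hM' hg' (affHyp P hc)
  refine ⟨FlatLocal.isCatModuli_of_id (h hM (Groth.L23.locP_of_repWith Groth.L23.etLocal_flat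
    (Groth.L23.repWith_mono (fun φ hφ => Groth.L23.etLocal_flat.etale φ hφ) (repWith_id @Etale (space P))))),
    fun M' hM' g hg' => h hM' hg'⟩

end Groth.L24.WNAModuli
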